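import Groth.Agent.EulerChar.Curve
import Groth.Agent.EulerChar.Restrict
import Groth.Agent.EulerChar.Torsion
import Groth.Agent.EulerLES.Finrank
import Groth.Agent.NumTriv.AmpleDeg
import Groth.Agent.HilbPolyX.Order
import Groth.Agent.ShStabLib.BC.Sys

/-!
# Linear bounds for `h⁰(N^n ⊗ G)`
-/

universe u

open CategoryTheory CategoryTheory.Limits AlgebraicGeometry TopologicalSpace
open Groth.Agent.PullStalk.Sky Groth.Agent.PullStalk.Exact

set_option linter.style.haveILetI false

noncomputable section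

namespace Groth.Agent.HodgeIdx81

open ProjTwist

variable (k : Type u) [Field k] {X : Scheme.{u}} [X.Over (Spec (CommRingCat.of k))]
  [IsProper (X ↘ Spec (CommRingCat.of k))]

/-- the dimension of `H^n` -/
abbrev hd (M : X.Modules) (n : ℕ) : ℕ := EulerLES.h k M n

theorem fin' {M : X.Modules} (hM : Coh.IsCoh M) : EulerLES.Fin' k M :=
  fun n => EulerChar.finite_HH k M hM n

theorem hd_iso {M N : X.Modules} (e : M ≅ N) (n : ℕ) : hd k M n = hd k N n := by
  have h : ∀ {M N : X.Modules} (e : M ≅ N) (x : Coh.HH X M n),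
      CurveCoh.mapL k e.inv n (CurveCoh.mapL k e.hom n x) = x := fun {M N} e x => by
    show Sheaf.H.map _ n (Sheaf.H.map _ n x) = x
    rw [← Sheaf.H.map_comp_apply, ← Functor.map_comp, e.hom_inv_id, CategoryTheory.Functor.map_id,
      Sheaf.H.map_id_apply]
  exact LinearEquiv.finrank_eq (LinearEquiv.ofBijective (CurveCoh.mapL k e.hom n)
    ⟨fun x y hxy => (h e x).symm.trans ((congrArg _ hxy).trans (h e y)), fun y => ⟨_, h e.symm y⟩⟩)

omit k [Field k] [X.Over (Spec (CommRingCat.of k))] [IsProper (X ↘ Spec (CommRingCat.of k))] in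
theorem subsingleton_of_isZero {G : X.Modules} (hG : IsZero G) (q : ℕ) :
    Subsingleton (Coh.HH X G q) := subsingleton_of_forall_eq 0 fun x => by
  have h : CohLin.hMap (𝟙 G) q x = CohLin.hMap (0 : G ⟶ G) q x := by rw [hG.eq_of_src (𝟙 G) 0]
  rw [CohLin.hMap_id] at h
  rw [h]
  exact map_zero (CohLin.hMapHom G G q x)

include k in
theorem subsingleton_gt {d : ℕ} (hdim : topologicalKrullDim X ≤ d) (M : X.Modules) {p : ℕ}
    (hp : d < p) : Subsingleton (Coh.HH X M p) :=
  haveI := EulerChar.isNoetherian k (X := X)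
  haveI : NoetherianSpace X.toTopCat := inferInstanceAs (NoetherianSpace X)
  CohTop.Vanishing.grothendieck_vanishing (X := X.toTopCat) d hdim (Coh.toAb M) p hp

include k in
theorem hd_eq_zero_gt {d : ℕ} (hdim : topologicalKrullDim X ≤ d) (M : X.Modules) {p : ℕ}
    (hp : d < p) : hd k M p = 0 :=
  @Module.finrank_zero_of_subsingleton _ _ _ _ _ _ (subsingleton_gt k hdim M hp)

omit k [Field k] [X.Over (Spec (CommRingCat.of k))] [IsProper (X ↘ Spec (CommRingCat.of k))] in
/-- A closed set missing the generic point has smaller dimension. -/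
theorem dim_le_of_not_mem [IrreducibleSpace X] {W : Set X} (hW : IsClosed W)
    (hξ : genericPoint X ∉ W) {d : ℕ} (hdim : topologicalKrullDim X ≤ ((d + 1 : ℕ) : WithBot ℕ∞)) :
    topologicalKrullDim ↥W ≤ (d : WithBot ℕ∞) :=
  Snapper.le_of_lt_succ (CohDev.dim_lt_of_irreducible hW (IrreducibleSpace.isIrreducible_univ X)
    (Set.subset_univ W) (fun h => hξ (h trivial))
    ((topologicalKrullDim_subspace_le X _).trans hdim))

/-- `h⁰` of an invertible module on an integral scheme of dimension at most one. -/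
theorem h0_le_of_integral [IsIntegral X] (hdim : topologicalKrullDim X ≤ ((1 : ℕ) : WithBot ℕ∞))
    {L : X.Modules} (hL : PicF.IsInvertible L) :
    (hd k L 0 : ℤ) ≤ |Curv2.euler k X L| + hd k (Coh.structureModule X) 1 := by
  haveI := EulerChar.isNoetherian k (X := X)
  by_cases h0 : hd k L 0 = 0
  · rw [h0]
    push_cast
    positivity
  have hO := PicLoc.isInvertible_structureModule X
  have hOc := VBLib.isCoh_of_ofRank (isFinLocFreeOfRank_one hO)
  have hLc := VBLib.isCoh_of_ofRank (isFinLocFreeOfRank_one hL)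
  obtain ⟨c, hc⟩ : ∃ c : Coh.HH X L 0, c ≠ 0 := by
    by_contra hall
    push Not at hall
    exact h0 (@Module.finrank_zero_of_subsingleton _ _ _ _ _ _ (subsingleton_of_forall_eq 0 hall))
  let φ : Coh.structureModule X ⟶ L := (ShStabLib.BC.secEquiv k L).symm c
  have hφ : φ ≠ 0 := fun h => hc ((LinearEquiv.map_eq_zero_iff _).1 h)
  haveI := EulerChar.mono_of_ne_zero hO hL φ hφ
  have hC : Coh.IsCoh (cokernel φ) := CohDev.isCoh_cokernel φ hOc.1 hLc
  have hd0 : topologicalKrullDim ↥(CohB1.support (cokernel φ)) ≤ ((0 : ℕ) : WithBot ℕ∞) :=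
    dim_le_of_not_mem (CohDev.isClosed_support hC)
      (CohDev.not_mem_support_cokernel φ (EulerChar.bijective_stalk_generic hO hL φ hφ).2)
      (d := 0) hdim
  have hS := HilbPolyX.shortExact_of_mono φ
  have h1 : hd k L 1 ≤ hd k (Coh.structureModule X) 1 + hd k (cokernel φ) 1 :=
    EulerLES.h_middle_le k hS (fin' k hOc) (fin' k hLc) (fin' k hC) 1
  have h2 : hd k (cokernel φ) 1 = 0 :=
    @Module.finrank_zero_of_subsingleton _ _ _ _ _ _
      (EulerChar.subsingleton_HH_of_support k hC hd0 0)
  have h3 : Curv2.euler k X L = (hd k L 0 : ℤ) - hd k L 1 := by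
    rw [EulerChar.euler_eq_sum k (t := 2) fun p hp => subsingleton_gt k hdim L (show 1 < p by omega)]
    simp [Finset.sum_range_succ]
    ring
  have h4 := le_abs_self (Curv2.euler k X L)
  omega

/-- `h⁰` along a tensored short exact sequence. -/
theorem hd_tens_le {V : X.Modules} (hV : PicF.IsInvertible V) {S : ShortComplex X.Modules}
    (hS : S.ShortExact) (h₁ : Coh.IsCoh S.X₁) (h₂ : Coh.IsCoh S.X₂) (h₃ : Coh.IsCoh S.X₃) :
    hd k (CohB1.tensorMod V S.X₁) 0 ≤ hd k (CohB1.tensorMod V S.X₂) 0 ∧
      hd k (CohB1.tensorMod V S.X₂) 0 ≤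
        hd k (CohB1.tensorMod V S.X₁) 0 + hd k (CohB1.tensorMod V S.X₃) 0 := by
  haveI := EulerChar.isNoetherian k (X := X)
  have hV1 := isFinLocFreeOfRank_one hV
  let F := (DCoh.tensorBi (X := X)).obj V
  have hM : (ShortComplex.mk (F.map S.f) (F.map S.g) (by rw [← F.map_comp, S.zero, F.map_zero])).ShortExact :=
    CohDev.tens_shortExact hV1 hS
  have f₁ : EulerLES.Fin' k (F.obj S.X₁) := fin' k (CohDev.isCoh_tens hV1 h₁)
  have f₂ : EulerLES.Fin' k (F.obj S.X₂) := fin' k (CohDev.isCoh_tens hV1 h₂)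
  have f₃ : EulerLES.Fin' k (F.obj S.X₃) := fin' k (CohDev.isCoh_tens hV1 h₃)
  have e : ∀ A : X.Modules, hd k (CohB1.tensorMod V A) 0 = hd k (F.obj A) 0 := fun A =>
    hd_iso k (Iso.refl (F.obj A) : CohB1.tensorMod V A ≅ F.obj A) 0
  rw [e, e, e]
  exact ⟨EulerLES.h_left_zero_le k hM f₂, EulerLES.h_middle_le k hM f₁ f₂ f₃ 0⟩

/-- `h⁰(N^n ⊗ G)` grows at most linearly. -/
def Lin (N G : X.Modules) : Prop :=
  ∃ c : ℕ, ∀ n : ℕ, hd k (CohB1.tensorMod (CohB1.tensorPow N n) G) 0 ≤ c * (n + 1)

section

variable {N : X.Modules} (hN : PicF.IsInvertible N)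
include hN

omit [IsProper (X ↘ Spec (CommRingCat.of k))] in
theorem lin_of_isZero {G : X.Modules} (hG : IsZero G) : Lin k N G := ⟨0, fun n => by
  have hz : IsZero (CohB1.tensorMod (CohB1.tensorPow N n) G) :=
    ((DCoh.tensorBi (X := X)).obj (CohB1.tensorPow N n)).map_isZero hG
  rw [hd, EulerLES.h, @Module.finrank_zero_of_subsingleton _ _ _ _ _ _
    (subsingleton_of_isZero hz 0)]
  exact Nat.zero_le _⟩

theorem lin_of_mono {A B : X.Modules} (g : A ⟶ B) [Mono g] (hA : Coh.IsCoh A) (hB : Coh.IsCoh B)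
    (h : Lin k N B) : Lin k N A := by
  haveI := EulerChar.isNoetherian k (X := X)
  obtain ⟨c, hc⟩ := h
  refine ⟨c, fun n => le_trans ?_ (hc n)⟩
  exact (hd_tens_le k (AmpleLib.isInvertible_tensorPow hN n) (HilbPolyX.shortExact_of_mono g)
    hA hB (CohDev.isCoh_cokernel g hA.1 hB)).1

theorem lin_ext {S : ShortComplex X.Modules} (hS : S.ShortExact) (h₁ : Coh.IsCoh S.X₁)
    (h₂ : Coh.IsCoh S.X₂) (h₃ : Coh.IsCoh S.X₃) (p₁ : Lin k N S.X₁) (p₃ : Lin k N S.X₃) :
    Lin k N S.X₂ := by
  haveI := EulerChar.isNoetherian k (X := X)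
  obtain ⟨a, ha⟩ := p₁
  obtain ⟨b, hb⟩ := p₃
  refine ⟨a + b, fun n => ?_⟩
  have hV := isFinLocFreeOfRank_one (AmpleLib.isInvertible_tensorPow hN n)
  rw [add_mul]
  exact le_trans (hd_tens_le k (AmpleLib.isInvertible_tensorPow hN n) hS h₁ h₂ h₃).2
    (Nat.add_le_add (ha n) (hb n))

/-- The structure sheaf of an integral closed subscheme of dimension at most one. -/
theorem lin_oz {x : X}
    (hdim : topologicalKrullDim ↥(closure ({x} : Set X)) ≤ ((1 : ℕ) : WithBot ℕ∞)) :
    Lin k N (Cyc.closureStructureSheaf x) := by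
  haveI := EulerChar.isNoetherian k (X := X)
  let ι := (IntMult.ptIdeal x).subschemeι
  letI : (IntMult.ptIdeal x).subscheme.Over (Spec (CommRingCat.of k)) :=
    ⟨ι ≫ (X ↘ Spec (CommRingCat.of k))⟩
  haveI : IsProper ((IntMult.ptIdeal x).subscheme ↘ Spec (CommRingCat.of k)) :=
    inferInstanceAs (IsProper (ι ≫ (X ↘ Spec (CommRingCat.of k))))
  haveI : IsIntegral (IntMult.ptIdeal x).subscheme :=
    S16188.isIntegral_subscheme _ isIrreducible_singleton.closure
  have hr : Set.range ι = closure ({x} : Set X) := (IntMult.ptIdeal x).range_subschemeι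
  have hdim' : topologicalKrullDim (IntMult.ptIdeal x).subscheme ≤ ((1 : ℕ) : WithBot ℕ∞) := by
    refine le_trans (le_of_eq ?_) hdim
    rw [← hr]
    exact IsHomeomorph.topologicalKrullDim_eq _
      (ι.isClosedEmbedding.isEmbedding.toHomeomorph).isHomeomorph
  let O := Cyc.closureStructureSheaf x
  have hO : Coh.IsCoh O := CohDev.isCoh_oz x
  have hOd : topologicalKrullDim ↥(CohB1.support O) ≤ ((1 : ℕ) : WithBot ℕ∞) :=
    (CohDev.dim_mono (CohDev.support_oz_subset x)).trans hdim
  let e := hd k (Coh.structureModule (IntMult.ptIdeal x).subscheme) 1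
  refine ⟨(Curv2.euler k X O).natAbs + (NumTriv.deg1 k O N).natAbs + e, fun n => ?_⟩
  have hP := AmpleLib.isInvertible_tensorPow hN n
  let L := (Scheme.Modules.pullback ι).obj (CohB1.tensorPow N n)
  have hL : PicF.IsInvertible L := PicCl.isInvertible_pullback ι hP
  haveI hLq : L.IsQuasicoherent := isQCoh_of_isInvertible hL
  have iso : CohB1.tensorMod (CohB1.tensorPow N n) O ≅ (Scheme.Modules.pushforward ι).obj L :=
    EulerChar.tensQuotIso ι (CohB1.tensorPow N n)
  have h0 : hd k (CohB1.tensorMod (CohB1.tensorPow N n) O) 0 = hd k L 0 :=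
    (hd_iso k iso 0).trans (EulerChar.nonempty_pushEquiv ι rfl L hLq 0).some.finrank_eq
  have he : Curv2.euler k (IntMult.ptIdeal x).subscheme L =
      Curv2.euler k X O + (n : ℤ) * NumTriv.deg1 k O N := by
    rw [← EulerChar.euler_push ι rfl L hLq, ← EulerChar.euler_iso k iso,
      EulerChar.euler_iso k (tensComm (CohB1.tensorPow N n) O),
      ← NumTriv.deg1_pow k hO hOd hN n, NumTriv.deg1]
    ring
  have hb := h0_le_of_integral k hdim' hL
  rw [← h0, he] at hb
  have h4 := abs_add_le (Curv2.euler k X O) ((n : ℤ) * NumTriv.deg1 k O N)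
  rw [abs_mul, Nat.abs_cast] at h4
  zify
  simp only [e] at *
  nlinarith [abs_nonneg (Curv2.euler k X O), abs_nonneg (NumTriv.deg1 k O N),
    Int.natCast_nonneg (hd k (Coh.structureModule (IntMult.ptIdeal x).subscheme) 1),
    mul_nonneg (Int.natCast_nonneg n) (abs_nonneg (Curv2.euler k X O))]

/-- Linear growth on supports of dimension at most one. -/
theorem lin_of_dim_le_one {G : X.Modules} (hG : Coh.IsCoh G)
    (hdim : topologicalKrullDim ↥(CohB1.support G) ≤ ((1 : ℕ) : WithBot ℕ∞)) : Lin k N G := by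
  haveI := EulerChar.isNoetherian k (X := X)
  refine CohDev.devissage_on (CohB1.support G) (fun G => Lin k N G) (fun M hM => lin_of_isZero k hN hM)
    (fun S hS h₁ h₂ h₃ _ p₁ p₃ => lin_ext k hN hS h₁ h₂ h₃ p₁ p₃) (fun x hx J hJ _ => ?_) hG subset_rfl
  obtain ⟨g, hg, hJc, -⟩ := hJ
  exact lin_of_mono k hN g hJc (CohDev.isCoh_oz x) (lin_oz k hN ((CohDev.dim_mono
    (closure_minimal (Set.singleton_subset_iff.2 hx) (CohDev.isClosed_support hG))).trans hdim))

end

omit k [Field k] [X.Over (Spec (CommRingCat.of k))] [IsProper (X ↘ Spec (CommRingCat.of k))] in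
/-- A map out of the structure sheaf injective at the generic point is a monomorphism. -/
theorem mono_of_generic [IsIntegral X] [IsLocallyNoetherian X] {B : X.Modules}
    (φ : Coh.structureModule X ⟶ B)
    (h : Function.Injective (stalkLin φ (genericPoint X))) : Mono φ := by
  refine Preadditive.mono_of_isZero_kernel φ (CohDev.isZero_of_support_eq_empty ?_)
  refine Set.eq_empty_iff_forall_notMem.2 fun y => CohDev.not_mem_support_kernel φ ?_
  rw [injective_iff_map_eq_zero]
  intro t ht
  obtain ⟨W, hyW, m, rfl⟩ := exists_germM_eq (Coh.structureModule X) y t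
  rw [stalkLin_germ] at ht
  obtain ⟨W', hyW', i₁, i₂, he⟩ :=
    B.presheaf.germ_eq y hyW hyW (φ.app W m) 0 (ht.trans (map_zero _).symm)
  have hm : (Coh.structureModule X).presheaf.map i₁.op m = 0 := by
    refine EulerChar.eq_zero_of_germ_generic
      (isFinLocFreeOfRank_one (PicLoc.isInvertible_structureModule X))
      (VBLib.genericPoint_mem_of_mem hyW') _ (h ?_)
    rw [map_zero, stalkLin_germ]
    refine Eq.trans (congrArg (B.presheaf.germ W' _ _) ?_) (map_zero _)
    exact (ConcreteCategory.congr_hom (φ.mapPresheaf.naturality i₁.op) m).trans (he.trans (map_zero _))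
  exact (((Coh.structureModule X).presheaf.germ_res_apply i₁ y hyW' m).symm.trans
    (congrArg ((Coh.structureModule X).presheaf.germ W' y hyW') hm)).trans (map_zero _)

omit k [Field k] [X.Over (Spec (CommRingCat.of k))] [IsProper (X ↘ Spec (CommRingCat.of k))] in
/-- The structure sheaf of the closure of the generic point. -/
theorem nonempty_oz_generic_iso [IsIntegral X] [IsLocallyNoetherian X] :
    Nonempty (Coh.structureModule X ≅ Cyc.closureStructureSheaf (genericPoint X)) := by
  let D := IntMult.ptIdeal (genericPoint X)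
  let π : Coh.structureModule X ⟶ Cyc.closureStructureSheaf (genericPoint X) := ClSub.toSubscheme D
  haveI : Epi π := EulerChar.epi_toSubscheme D
  haveI : Mono π := mono_of_generic π <| by
    letI : Field (X.presheaf.stalk (genericPoint X)) := inferInstanceAs (Field X.functionField)
    have hs : Function.Surjective (stalkLin π (genericPoint X)) :=
      stalk_surjective π (genericPoint X)
    obtain ⟨eO⟩ := EulerChar.stalk_ofRank
      (isFinLocFreeOfRank_one (PicLoc.isInvertible_structureModule X)) (genericPoint X)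
    haveI : Module.Finite (X.presheaf.stalk (genericPoint X))
        ((Coh.structureModule X).presheaf.stalk (genericPoint X)) := Module.Finite.equiv eO
    have h1 : Module.length (X.presheaf.stalk (genericPoint X))
        ((Coh.structureModule X).presheaf.stalk (genericPoint X)) = 1 := by
      rw [← eO.length_eq, Module.length_pi]
      simp
    have h2 := CohDev.length_stalk_oz (genericPoint X)
    have h3 := Module.length_eq_add_of_exact (LinearMap.ker (stalkLin π (genericPoint X))).subtype
      (stalkLin π (genericPoint X)) Subtype.val_injective hs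
      (LinearMap.exact_subtype_ker_map _)
    rw [h1, h2] at h3
    have h4 : Module.length (X.presheaf.stalk (genericPoint X))
        (LinearMap.ker (stalkLin π (genericPoint X))) = 0 := by
      revert h3
      generalize Module.length (X.presheaf.stalk (genericPoint X))
        (LinearMap.ker (stalkLin π (genericPoint X))) = a
      intro h3
      cases a with
      | top => simp at h3
      | coe a =>
        have : a = 0 := by norm_cast at h3; omega
        rw [this]; rfl
    rw [Module.length_eq_zero_iff] at h4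
    rw [← LinearMap.ker_eq_bot]
    exact Submodule.subsingleton_iff_eq_bot.1 h4
  haveI : IsIso π := isIso_of_mono_of_epi π
  exact ⟨asIso π⟩

/-- On an integral scheme of dimension `≤ 2`, linear growth for `O` gives it for all coherent modules. -/
theorem lin_of_lin_structure [IsIntegral X]
    (hdim : topologicalKrullDim X ≤ ((2 : ℕ) : WithBot ℕ∞))
    {N : X.Modules} (hN : PicF.IsInvertible N) (h : Lin k N (Coh.structureModule X))
    {G : X.Modules} (hG : Coh.IsCoh G) : Lin k N G := by
  haveI := EulerChar.isNoetherian k (X := X)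
  refine CohDev.devissage_on Set.univ (fun G => Lin k N G) (fun M hM => lin_of_isZero k hN hM)
    (fun S hS h₁ h₂ h₃ _ p₁ p₃ => lin_ext k hN hS h₁ h₂ h₃ p₁ p₃) (fun x _ J hJ _ => ?_) hG
    (Set.subset_univ _)
  have hJs := hJ.support_subset
  obtain ⟨g, hg, hJc, -⟩ := hJ
  by_cases hx : x = genericPoint X
  · subst hx
    obtain ⟨e⟩ := nonempty_oz_generic_iso (X := X)
    exact lin_of_mono k hN (g ≫ e.inv) hJc (ProperFin.isCoh_structureModule X) h
  · refine lin_of_dim_le_one k hN hJc ?_
    refine (CohDev.dim_mono hJs).trans (dim_le_of_not_mem isClosed_closure (fun hξ => hx ?_) (d := 1) hdim)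
    exact ((genericPoint_specializes x).antisymm (specializes_iff_mem_closure.2 hξ)).eq.symm

end Groth.Agent.HodgeIdx81
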