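import Groth.Agent.HodgeIdx81.Growth
import Groth.Agent.NumTriv.Section
import Groth.Agent.S1684
import Groth.Agent.RegLoc.UFD
import Groth.Agent.FibBound.Basic
import Groth.Agent.IdealSh.IdealMod
import Groth.Agent.CurveDVR.Stalk

/-!
# Curves on a regular projective surface
-/

universe u

open CategoryTheory CategoryTheory.Limits AlgebraicGeometry TopologicalSpace

set_option linter.style.haveILetI false

noncomputable section

namespace Groth.Agent.HodgeIdx81

attribute [local irreducible] Curv2.euler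

open ProjTwist

variable (k : Type u) [Field k] {X : Scheme.{u}} [X.Over (Spec (CommRingCat.of k))]
  [IsProper (X ↘ Spec (CommRingCat.of k))] [IsIntegral X]

include k in
/-- An integral curve on a regular surface has an invertible ideal. -/
theorem isInvertible_of_curve (hreg : ∀ x : X, IsRegularLocalRing (X.presheaf.stalk x))
    (hdim : topologicalKrullDim X = ((2 : ℕ) : WithBot ℕ∞)) (C : X.IdealSheafData)
    [IsIntegral C.subscheme]
    (hC : topologicalKrullDim ↥(C.support : Set X) = ((1 : ℕ) : WithBot ℕ∞)) :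
    PicF.IsInvertible (ClSub.idealMod C) := by
  haveI := EulerChar.isNoetherian k (X := X)
  refine IdealSh.IdealMod.isInvertible_of_isEffCartierIdeal C (S1684.result X C ?_ fun x _ => ?_)
  · have hcl : closure ({C.subschemeι (genericPoint ↥C.subscheme)} : Set X) = (C.support : Set X) := by
      rw [← Set.image_singleton, C.subschemeι.isClosedEmbedding.closure_image_eq,
        (genericPoint_spec ↥C.subscheme).def, Set.image_univ, C.range_subschemeι]
    have hd : VarDim.dimPt k X (C.subschemeι (genericPoint ↥C.subscheme)) = 1 := by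
      have h := FibBound.topDim_closure_singleton k (C.subschemeι (genericPoint ↥C.subscheme))
      rw [hcl, hC] at h
      exact_mod_cast h.symm
    have hη : VarDim.dimPt k X (genericPoint X) = 2 := by
      have h := (VarDim.topologicalKrullDim_eq_of_irreducible k (X := X)).symm.trans hdim
      exact_mod_cast h
    have hle : ∀ y : X, VarDim.dimPt k X y ≤ 2 := fun y => by
      have h := (VarDim.topologicalKrullDim_eq_iSup k (X := X)).symm.trans hdim
      have h1 : (VarDim.dimPt k X y : WithBot ℕ∞) ≤ ((2 : ℕ) : WithBot ℕ∞) :=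
        (le_iSup (fun z : X => (VarDim.dimPt k X z : WithBot ℕ∞)) y).trans h.le
      exact_mod_cast h1
    rw [ringKrullDim_stalk_eq_coheight]
    have h1 := VarDim.coheight_le_of_forall k (x := C.subschemeι (genericPoint ↥C.subscheme)) fun y _ => hle y
    have h2 := VarDim.le_coheight k (x := C.subschemeι (genericPoint ↥C.subscheme)) (y := genericPoint X)
      (genericPoint_specializes _)
    rw [hd] at h1 h2
    rw [hη] at h2
    rw [le_antisymm h1 h2]
    simp
  · haveI := hreg x
    exact ⟨inferInstance, RegLoc.UFD.uniqueFactorizationMonoid _⟩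

omit [IsIntegral X] in
/-- The degree of a module on a subscheme with invertible ideal. -/
theorem deg1_quotMod {C : X.IdealSheafData} (hI : PicF.IsInvertible (ClSub.idealMod C))
    {L : X.Modules} (hL : PicF.IsInvertible L) :
    NumTriv.deg1 k (ClSub.quotMod C) L = -pr k L (ClSub.idealMod C) := by
  haveI := EulerChar.isNoetherian k (X := X)
  have hOc := VBLib.isCoh_of_ofRank (isFinLocFreeOfRank_one (PicLoc.isInvertible_structureModule X))
  have hIc := VBLib.isCoh_of_ofRank (isFinLocFreeOfRank_one hI)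
  have hQc := EulerChar.isCoh_quotMod k C
  have hS := EulerChar.shortExact_ideal C
  have h1 : Curv2.euler k X (Coh.structureModule X) =
      Curv2.euler k X (ClSub.idealMod C) + Curv2.euler k X (ClSub.quotMod C) :=
    EulerChar.euler_add' k (ClSub.idealModι C) (ClSub.toSubscheme C) (kernel.condition _) hS hIc hOc hQc
  have h2 : Curv2.euler k X (CohB1.tensorMod L (Coh.structureModule X)) =
      Curv2.euler k X (CohB1.tensorMod L (ClSub.idealMod C)) +
        Curv2.euler k X (CohB1.tensorMod L (ClSub.quotMod C)) :=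
    euler_tens_add k (S := ShortComplex.mk (ClSub.idealModι C) (ClSub.toSubscheme C) (kernel.condition _))
      hL hS hIc hOc hQc
  rw [EulerChar.euler_iso k (tensOne L)] at h2
  rw [NumTriv.deg1, pr, EulerChar.euler_iso k (tensComm (ClSub.quotMod C) L)]
  linarith

omit [IsIntegral X] in
/-- Degrees on a support of dimension one are combinations of degrees on curves. -/
theorem deg1_pieces {F : X.Modules} (hF : Coh.IsCoh F)
    (hd : topologicalKrullDim ↥(CohB1.support F) ≤ ((1 : ℕ) : WithBot ℕ∞)) :
    ∃ (s : Finset X) (m : X → ℕ),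
      (∀ ξ ∈ s, topologicalKrullDim ↥((IntMult.ptIdeal ξ).support : Set X) = ((1 : ℕ) : WithBot ℕ∞) ∧
        IsIntegral (IntMult.ptIdeal ξ).subscheme) ∧
      ∀ L : X.Modules, PicF.IsInvertible L → NumTriv.deg1 k F L =
        ∑ ξ ∈ s, (m ξ : ℤ) * NumTriv.deg1 k (ClSub.quotMod (IntMult.ptIdeal ξ)) L := by
  haveI := EulerChar.isNoetherian k (X := X)
  have hT := CohDev.isClosed_support hF
  have hfin := IntProd70.finite_top hT hd
  have hs : ∀ ξ, ξ ∈ hfin.toFinset ↔
      ξ ∈ CohB1.support F ∧ topologicalKrullDim ↥(closure ({ξ} : Set X)) = ((1 : ℕ) : WithBot ℕ∞) :=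
    fun ξ => hfin.mem_toFinset
  refine ⟨hfin.toFinset, fun ξ => (IntProd70.len F ξ).toNat,
    fun ξ hξ => ⟨by rw [CohDev.coe_support_ptIdeal]; exact ((hs ξ).1 hξ).2,
      S16188.isIntegral_subscheme _ isIrreducible_singleton.closure⟩, fun L hL => ?_⟩
  have h1 : ∀ {G : X.Modules}, Coh.IsCoh G → Snapper.intE k (fun _ : Fin 1 => L) G =
      - NumTriv.deg1 k G L := fun {G} hG => by
    rw [show (fun _ : Fin 1 => L) = Fin.cons L (fun i : Fin 0 => L) from
      funext fun i => by fin_cases i; rfl,
      Snapper.intE_cons k (fun i => i.elim0) hL hG, map_sub,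
      Snapper.intK_kcl k (fun i => i.elim0) (Snapper.isCoh_tensorMod k hL hG),
      Snapper.intK_kcl k (fun i => i.elim0) hG, Snapper.intE_zero, Snapper.intE_zero, NumTriv.deg1,
      EulerChar.euler_iso k (tensComm G L), neg_sub]
  have h := IntProd70.intE_components k (L := fun _ : Fin 1 => L) (fun _ => hL) hT hd _ hs hF subset_rfl
  rw [h1 hF, Finset.sum_congr rfl fun ξ _ => by rw [h1 (CohDev.isCoh_oz ξ), mul_neg],
    Finset.sum_neg_distrib, neg_inj] at h
  exact h

/-- Orthogonality to all classes forces numerical triviality. -/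
theorem isNumEquivZero_of_pr (hreg : ∀ x : X, IsRegularLocalRing (X.presheaf.stalk x))
    (hdim : topologicalKrullDim X = ((2 : ℕ) : WithBot ℕ∞)) {L : X.Modules} (hL : PicF.IsInvertible L)
    (h : ∀ M : X.Modules, PicF.IsInvertible M → pr k L M = 0) : Pic13.IsNumEquivZero k X L := by
  refine NumTriv.Section.isNumEquivZero_of_num1 ⟨hL, fun F hF hd => sub_eq_zero.1 ?_⟩
  obtain ⟨s, m, hs, hm⟩ := deg1_pieces k hF hd
  refine (hm L hL).trans (Finset.sum_eq_zero fun ξ hξ => ?_)
  haveI := (hs ξ hξ).2
  have hI := isInvertible_of_curve k hreg hdim _ (hs ξ hξ).1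
  rw [deg1_quotMod k hI hL, h _ hI, neg_zero, mul_zero]

/-- The class of a module with a section is a nonnegative combination of curve classes. -/
theorem pr_of_section (hreg : ∀ x : X, IsRegularLocalRing (X.presheaf.stalk x))
    (hdim : topologicalKrullDim X = ((2 : ℕ) : WithBot ℕ∞)) {M : X.Modules} (hM : PicF.IsInvertible M)
    (φ : Coh.structureModule X ⟶ M) (hφ : φ ≠ 0) :
    ∃ (s : Finset X) (m : X → ℕ) (hs : ∀ ξ ∈ s, IsIntegral (IntMult.ptIdeal ξ).subscheme ∧
        topologicalKrullDim ↥((IntMult.ptIdeal ξ).support : Set X) = ((1 : ℕ) : WithBot ℕ∞) ∧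
        PicF.IsInvertible (ClSub.idealMod (IntMult.ptIdeal ξ))),
      ∀ A : X.Modules, PicF.IsInvertible A →
        pr k A M = -∑ ξ ∈ s, (m ξ : ℤ) * pr k A (ClSub.idealMod (IntMult.ptIdeal ξ)) := by
  haveI := EulerChar.isNoetherian k (X := X)
  have hO := PicLoc.isInvertible_structureModule X
  have hOc := VBLib.isCoh_of_ofRank (isFinLocFreeOfRank_one hO)
  have hMc := VBLib.isCoh_of_ofRank (isFinLocFreeOfRank_one hM)
  haveI := EulerChar.mono_of_ne_zero hO hM φ hφ
  have hQ : Coh.IsCoh (cokernel φ) := CohDev.isCoh_cokernel φ hOc.1 hMc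
  have hQd : topologicalKrullDim ↥(CohB1.support (cokernel φ)) ≤ ((1 : ℕ) : WithBot ℕ∞) :=
    dim_le_of_not_mem (CohDev.isClosed_support hQ)
      (CohDev.not_mem_support_cokernel φ (EulerChar.bijective_stalk_generic hO hM φ hφ).2)
      (d := 1) hdim.le
  obtain ⟨s, m, hs, hm⟩ := deg1_pieces k hQ hQd
  have hs' : ∀ ξ ∈ s, IsIntegral (IntMult.ptIdeal ξ).subscheme ∧
      topologicalKrullDim ↥((IntMult.ptIdeal ξ).support : Set X) = ((1 : ℕ) : WithBot ℕ∞) ∧
      PicF.IsInvertible (ClSub.idealMod (IntMult.ptIdeal ξ)) := fun ξ hξ =>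
    haveI := (hs ξ hξ).2
    ⟨(hs ξ hξ).2, (hs ξ hξ).1, isInvertible_of_curve k hreg hdim _ (hs ξ hξ).1⟩
  refine ⟨s, m, hs', fun A hA => ?_⟩
  have hS := HilbPolyX.shortExact_of_mono φ
  have h1 : Curv2.euler k X M = Curv2.euler k X (Coh.structureModule X) + Curv2.euler k X (cokernel φ) :=
    EulerChar.euler_add' k φ (cokernel.π φ) (cokernel.condition φ) hS hOc hMc hQ
  have h2 : Curv2.euler k X (CohB1.tensorMod A M) =
      Curv2.euler k X (CohB1.tensorMod A (Coh.structureModule X)) +
        Curv2.euler k X (CohB1.tensorMod A (cokernel φ)) :=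
    euler_tens_add k (S := ShortComplex.mk φ (cokernel.π φ) (cokernel.condition φ)) hA hS hOc hMc hQ
  rw [EulerChar.euler_iso k (tensOne A)] at h2
  have h3 : pr k A M = NumTriv.deg1 k (cokernel φ) A := by
    rw [NumTriv.deg1, pr, EulerChar.euler_iso k (tensComm (cokernel φ) A)]
    linarith
  rw [h3, hm A hA, ← Finset.sum_neg_distrib]
  exact Finset.sum_congr rfl fun ξ hξ => by rw [deg1_quotMod k (hs' ξ hξ).2.2 hA, mul_neg]

end Groth.Agent.HodgeIdx81
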