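import Groth.Agent.HodgeIdx81.Rational
import Groth.Agent.Adic.PowLe

/-!
# Fundamental cycles of negative definite configurations
-/

set_option autoImplicit false
set_option linter.style.haveILetI false

universe u

open CategoryTheory CategoryTheory.Limits AlgebraicGeometry
open Groth.Agent.ProjTwist

noncomputable section

namespace Groth.Agent.HodgeIdx81.Fundamental

attribute [local irreducible] Curv2.euler

theorem mul_le_right' {X : Scheme.{u}} (P Q : X.IdealSheafData) : P * Q ≤ Q := fun U => by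
  rw [Scheme.IdealSheafData.ideal_mul, Pi.mul_apply]
  exact Ideal.mul_le.2 fun a _ b hb => Ideal.mul_mem_left _ _ hb

theorem mem_support {X : Scheme.{u}} (C : X.IdealSheafData) [IsIntegral C.subscheme] :
    C.subschemeι (genericPoint ↥C.subscheme) ∈ (C.support : Set X) :=
  C.range_subschemeι ▸ Set.mem_range_self _

theorem curve_ne_top {X : Scheme.{u}} (C : X.IdealSheafData) [IsIntegral C.subscheme] : C ≠ ⊤ := fun h => by
  have h' : (C.support : Set X) = ∅ := by rw [h, Scheme.IdealSheafData.support_top]; rfl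
  exact Set.eq_empty_iff_forall_notMem.1 h' _ (mem_support C)

theorem ptIdeal_eq {X : Scheme.{u}} {ξ : X} (C : X.IdealSheafData) [IsIntegral C.subscheme]
    (hξ : ξ ∈ (C.support : Set X))
    (hC : topologicalKrullDim ↥(C.support : Set X) = ((1 : ℕ) : WithBot ℕ∞))
    (h1 : topologicalKrullDim ↥((IntMult.ptIdeal ξ).support : Set X) = ((1 : ℕ) : WithBot ℕ∞)) :
    IntMult.ptIdeal ξ = C := by
  obtain ⟨eC, hclC⟩ := RealNakai.eq_ptIdeal C
  rw [CohDev.coe_support_ptIdeal] at h1
  have hle : closure ({ξ} : Set X) ⊆ (C.support : Set X) :=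
    closure_minimal (Set.singleton_subset_iff.2 hξ) C.support.isClosed
  have heq : closure ({ξ} : Set X) = (C.support : Set X) := by
    by_contra hns
    have hirr : IsIrreducible (C.support : Set X) := hclC ▸ isIrreducible_singleton.closure
    have h := CohDev.dim_lt_of_irreducible isClosed_closure hirr hle
      (fun h => hns (hle.antisymm h)) hC.le
    rw [h1] at h
    exact lt_irrefl _ h
  rw [eC]
  unfold IntMult.ptIdeal
  congr 1
  exact TopologicalSpace.Closeds.ext (heq.trans hclC.symm)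

variable (k : Type u) [Field k] {X : Scheme.{u}} [X.Over (Spec (CommRingCat.of k))]
  [IsProper (X ↘ Spec (CommRingCat.of k))]

include k in
/-- Vanishing on a closed subscheme above its dimension. -/
theorem subsingleton_tens_quot (J : X.IdealSheafData) {M : X.Modules} (hM : PicF.IsInvertible M) (d i : ℕ)
    (hd : topologicalKrullDim ↥(J.support : Set X) ≤ ((d : ℕ) : WithBot ℕ∞)) (hi : d < i) :
    Subsingleton (Coh.HH X (CohB1.tensorMod M (ClSub.quotMod J)) i) := by
  letI : J.subscheme.Over (Spec (CommRingCat.of k)) := ⟨J.subschemeι ≫ (X ↘ Spec (CommRingCat.of k))⟩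
  haveI : IsProper (J.subscheme ↘ Spec (CommRingCat.of k)) :=
    inferInstanceAs (IsProper (J.subschemeι ≫ (X ↘ Spec (CommRingCat.of k))))
  haveI := EulerChar.isNoetherian k (X := J.subscheme)
  have hdJ : topologicalKrullDim J.subscheme ≤ ((d : ℕ) : WithBot ℕ∞) := by
    rw [IsHomeomorph.topologicalKrullDim_eq _ (J.subschemeι.isEmbedding.toHomeomorph.trans
      (Homeomorph.setCongr J.range_subschemeι)).isHomeomorph]
    exact hd
  let P := (Scheme.Modules.pullback J.subschemeι).obj M
  have hPq : Coh.IsQCoh P := ProjTwist.isQCoh_of_isInvertible (PicCl.isInvertible_pullback _ hM)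
  let e : CohB1.tensorMod M (ClSub.quotMod J) ≅ (Scheme.Modules.pushforward J.subschemeι).obj P :=
    EulerChar.tensQuotIso J.subschemeι M
  obtain ⟨E⟩ := EulerChar.nonempty_pushEquiv (A := k) J.subschemeι rfl P hPq i
  haveI := CohTop.Vanishing.grothendieck_vanishing (X := J.subscheme.toPresheafedSpace.carrier) d hdJ
    (Coh.toAb P) i hi
  haveI : Subsingleton (Coh.HH X ((Scheme.Modules.pushforward J.subschemeι).obj P) i) := E.toEquiv.subsingleton
  exact AmpCrit.subsingleton_HH_of_iso e.symm i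

variable [IsIntegral X] (hdim : topologicalKrullDim X = ((2 : ℕ) : WithBot ℕ∞))
  (hreg : ∀ x : X, IsRegularLocalRing (X.presheaf.stalk x))

include hdim in
theorem pr_mul {I J : X.IdealSheafData} (hI : BlowUp.IsEffCartierIdeal I)
    (hJ : BlowUp.IsEffCartierIdeal J) {B : X.Modules} (hB : PicF.IsInvertible B) :
    pr k B (ClSub.idealMod (I * J)) = pr k B (ClSub.idealMod I) + pr k B (ClSub.idealMod J) := by
  haveI := EulerChar.isNoetherian k (X := X)
  obtain ⟨e⟩ := VertInter.nonempty_idealMod_mul hI hJ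
  rw [← pr_congr k (Iso.refl B) e, pr_comm, pr_add_left k hdim.le
    (IdealSh.IdealMod.isInvertible_of_isEffCartierIdeal I hI)
    (IdealSh.IdealMod.isInvertible_of_isEffCartierIdeal J hJ) hB, pr_comm k _ B, pr_comm k _ B]

include hdim hreg in
theorem pr_ample_nonpos {A : X.Modules} (hA : CohB1.IsAmple A) {R : X.IdealSheafData}
    (hR : BlowUp.IsEffCartierIdeal R) : pr k A (ClSub.idealMod R) ≤ 0 := by
  obtain ⟨s, m, hs, hp⟩ := Sub.pr_ideal_pieces k hdim hreg (I := R) hR
  rw [hp A hA.1]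
  refine Finset.sum_nonpos fun η hη => ?_
  haveI := (hs η hη).2.1
  exact mul_nonpos_of_nonneg_of_nonpos (Int.natCast_nonneg _)
    (RealNakai.pr_ample_curve k hA _ (hs η hη).2.2.1 (hs η hη).2.2.2).le

include hdim hreg in
theorem pr_curve_nonneg {R : X.IdealSheafData} (hR : BlowUp.IsEffCartierIdeal R)
    (C : X.IdealSheafData) [IsIntegral C.subscheme]
    (hC : topologicalKrullDim ↥(C.support : Set X) = ((1 : ℕ) : WithBot ℕ∞))
    (h : C.subschemeι (genericPoint ↥C.subscheme) ∉ (R.support : Set X)) :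
    0 ≤ pr k (ClSub.idealMod R) (ClSub.idealMod C) := by
  have hCi := isInvertible_of_curve k hreg hdim C hC
  obtain ⟨s, m, hs, hp⟩ := Sub.pr_ideal_pieces k hdim hreg (I := R) hR
  rw [pr_comm, hp _ hCi]
  refine Finset.sum_nonneg fun η hη => mul_nonneg (Int.natCast_nonneg _) ?_
  obtain ⟨hηR, hint, hd1, hηi⟩ := hs η hη
  haveI := hint
  refine RealNakai.pr_curves_nonneg k hd1 hC hηi hCi fun e => h ?_
  have hmem := mem_support C
  have hset : (C.support : Set X) = closure {η} :=
    (congrArg (fun I : X.IdealSheafData => (I.support : Set X)) e).symm.trans (CohDev.coe_support_ptIdeal η)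
  rw [hset] at hmem
  exact closure_minimal (Set.singleton_subset_iff.2 hηR) R.support.isClosed hmem

include hdim in
theorem euler_mul {W C : X.IdealSheafData} (hW : BlowUp.IsEffCartierIdeal W)
    (hC : BlowUp.IsEffCartierIdeal C) :
    Curv2.euler k X (ClSub.quotMod (W * C)) = Curv2.euler k X (ClSub.quotMod W) +
      Curv2.euler k X (ClSub.quotMod C) - pr k (ClSub.idealMod W) (ClSub.idealMod C) := by
  haveI := EulerChar.isNoetherian k (X := X)
  have hWi := IdealSh.IdealMod.isInvertible_of_isEffCartierIdeal W hW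
  have hCi := IdealSh.IdealMod.isInvertible_of_isEffCartierIdeal C hC
  obtain ⟨S, hS, ⟨e₁⟩, ⟨e₂⟩, ⟨e₃⟩⟩ := Sub.exists_mulShort k hW hC
  have h := EulerChar.euler_add' k S.f S.g S.zero hS
    (CohDev.isCoh_of_iso e₁.symm (Snapper.isCoh_tensorMod k hWi (EulerChar.isCoh_quotMod k C)))
    (CohDev.isCoh_of_iso e₂.symm (EulerChar.isCoh_quotMod k _))
    (CohDev.isCoh_of_iso e₃.symm (EulerChar.isCoh_quotMod k W))
  have h2 := deg1_quotMod k hCi hWi
  rw [NumTriv.deg1, EulerChar.euler_iso k (tensComm (ClSub.quotMod C) (ClSub.idealMod W))] at h2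
  rw [EulerChar.euler_iso k e₁, EulerChar.euler_iso k e₂, EulerChar.euler_iso k e₃] at h
  linarith

include hdim in
theorem dim_le_one {T : Set X} (hT : IsClosed T) (hne : T ≠ Set.univ) :
    topologicalKrullDim ↥T ≤ ((1 : ℕ) : WithBot ℕ∞) := by
  refine Snapper.le_of_lt_succ ?_
  refine CohDev.dim_lt_of_irreducible hT (IrreducibleSpace.isIrreducible_univ X) (Set.subset_univ _)
    (fun h => hne (Set.univ_subset_iff.1 h)) ?_
  rw [IsHomeomorph.topologicalKrullDim_eq _ (Homeomorph.Set.univ X).isHomeomorph, hdim]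

variable [IsAlgClosed k]

include hdim hreg in
/-- Adding a rational curve keeps `H¹` zero. -/
theorem subsingleton_add {W : X.IdealSheafData} (hW : BlowUp.IsEffCartierIdeal W)
    (C : X.IdealSheafData) [IsIntegral C.subscheme]
    (hC : topologicalKrullDim ↥(C.support : Set X) = ((1 : ℕ) : WithBot ℕ∞))
    (hχ : Curv2.euler k X (ClSub.quotMod C) = 1)
    (hpr : pr k (ClSub.idealMod W) (ClSub.idealMod C) ≤ 1)
    (h : Subsingleton (Coh.HH X (ClSub.quotMod W) 1)) :
    Subsingleton (Coh.HH X (ClSub.quotMod (W * C)) 1) := by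
  haveI := EulerChar.isNoetherian k (X := X)
  have hWi := IdealSh.IdealMod.isInvertible_of_isEffCartierIdeal W hW
  have hCe := Sub.isEffCartier_curve k hdim hreg C hC
  have hCi := IdealSh.IdealMod.isInvertible_of_isEffCartierIdeal C hCe
  obtain ⟨S, hS, ⟨e₁⟩, ⟨e₂⟩, ⟨e₃⟩⟩ := Sub.exists_mulShort k hW hCe
  haveI := Rational.curve_h1 k C hC hχ hWi (by rw [deg1_quotMod k hCi hWi]; omega)
  haveI h1 : Subsingleton (Coh.HH X S.X₁ 1) := AmpCrit.subsingleton_HH_of_iso e₁.symm 1
  haveI := h
  haveI h3 : Subsingleton (Coh.HH X S.X₃ 1) := AmpCrit.subsingleton_HH_of_iso e₃.symm 1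
  haveI := Rational.subsingleton_h1_of_shortExact k hS h1 h3
  exact AmpCrit.subsingleton_HH_of_iso e₂ 1

omit [IsIntegral X] [IsAlgClosed k] in
include k in
/-- `H¹` passes to subdivisors. -/
theorem subsingleton_sub {Z J : X.IdealSheafData} (hZ : BlowUp.IsEffCartierIdeal Z)
    (hJ : BlowUp.IsEffCartierIdeal J)
    (hd : topologicalKrullDim ↥(J.support : Set X) ≤ ((1 : ℕ) : WithBot ℕ∞))
    (h : Subsingleton (Coh.HH X (ClSub.quotMod (Z * J)) 1)) :
    Subsingleton (Coh.HH X (ClSub.quotMod Z) 1) := by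
  haveI := EulerChar.isNoetherian k (X := X)
  obtain ⟨S, hS, ⟨e₁⟩, ⟨e₂⟩, ⟨e₃⟩⟩ := Sub.exists_mulShort k hZ hJ
  haveI := subsingleton_tens_quot k J (IdealSh.IdealMod.isInvertible_of_isEffCartierIdeal Z hZ) 1 2 hd
    (by norm_num)
  haveI : Subsingleton (Coh.HH X S.X₁ 2) := AmpCrit.subsingleton_HH_of_iso e₁.symm 2
  haveI := h
  haveI : Subsingleton (Coh.HH X S.X₂ 1) := AmpCrit.subsingleton_HH_of_iso e₂.symm 1
  haveI : Subsingleton (Coh.HH X S.X₃ 1) := subsingleton_of_forall_eq 0 fun z => by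
    obtain ⟨y, hy⟩ := ((CurveCoh.exact_mapL_deltaL k hS 1 2 rfl) z).mp (Subsingleton.elim _ _)
    rw [← hy, Subsingleton.elim y 0, map_zero]
  exact AmpCrit.subsingleton_HH_of_iso e₃ 1

end Groth.Agent.HodgeIdx81.Fundamental
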