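import Groth.Agent.HodgeIdx81.Surface

/-!
# Consequences of the Hodge index inequality
-/

universe u

open CategoryTheory CategoryTheory.Limits AlgebraicGeometry

set_option linter.style.haveILetI false

noncomputable section

namespace Groth.Agent.HodgeIdx81

attribute [local irreducible] Curv2.euler

variable (k : Type u) [Field k] {X : Scheme.{u}} [X.Over (Spec (CommRingCat.of k))]
  [IsProper (X ↘ Spec (CommRingCat.of k))]

theorem intNum_eq_pr (hdim : topologicalKrullDim X = ((2 : ℕ) : WithBot ℕ∞)) {A B : X.Modules}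
    (hA : PicF.IsInvertible A) (hB : PicF.IsInvertible B) :
    FGA.intNum k X 2 ![A, B] (Coh.structureModule X) = pr k A B := by
  rw [Snapper.intNum_eq k hdim.le, show ![A, B] = Fin.cons A (fun _ : Fin 1 => B) from
    funext fun i => by fin_cases i <;> rfl, pr_eq_intE k hA hB]

theorem intNum_inv_eq_pr (hdim : topologicalKrullDim X = ((2 : ℕ) : WithBot ℕ∞)) {A A' B B' : X.Modules}
    (hA : PicF.IsInvertible A) (hB : PicF.IsInvertible B)
    (e : CohB1.tensorMod A A' ≅ Coh.structureModule X) (e' : CohB1.tensorMod B B' ≅ Coh.structureModule X) :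
    FGA.intNum k X 2 ![A', B'] (Coh.structureModule X) = pr k A B := by
  have hA' := AmpCrit.NegVan.isInvertible_of_inverse hA e
  have hB' := AmpCrit.NegVan.isInvertible_of_inverse hB e'
  rw [intNum_eq_pr k hdim hA' hB', pr_inv_both k hdim.le hA hA' hB hB' e e']

variable [IsIntegral X]

/-- With `(N·N) > 0` an ample class is not orthogonal to `N`. -/
theorem pr_ne_zero (hdim : topologicalKrullDim X = ((2 : ℕ) : WithBot ℕ∞)) {H N : X.Modules}
    (hH : CohB1.IsAmple H) (hN : PicF.IsInvertible N) (hpos : 0 < pr k N N) : pr k N H ≠ 0 :=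
  fun h => (pr_self_nonpos k hdim hH hN h).not_gt hpos

/-- High powers have sections when `(N·H) ≥ 0` and `(N·N) > 0`. -/
theorem exists_nontrivial (hdim : topologicalKrullDim X = ((2 : ℕ) : WithBot ℕ∞)) {H N : X.Modules}
    (hH : CohB1.IsAmple H) (hN : PicF.IsInvertible N) (hnn : 0 ≤ pr k N H) (hpos : 0 < pr k N N) :
    ∃ n₀ : ℕ, 0 < n₀ ∧ ∀ n, n₀ ≤ n → Nontrivial (Coh.HH X (CohB1.tensorPow N n) 0) := by
  obtain ⟨K, hK⟩ := exists_growth k hdim hH hN hnn hpos
  refine ⟨2 * K + 2, by omega, fun n hn => ?_⟩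
  haveI := EulerChar.isNoetherian k (X := X)
  haveI := EulerChar.finite_HH k (CohB1.tensorPow N n)
    (VBLib.isCoh_of_ofRank (ProjTwist.isFinLocFreeOfRank_one (AmpleLib.isInvertible_tensorPow hN n))) 0
  refine Module.nontrivial_of_finrank_pos (R := k) ?_
  have h := hK n
  have h1 := Nat.mul_le_mul_right n hn
  show 0 < hd k (CohB1.tensorPow N n) 0
  nlinarith

/-- A section of a positive power forces `(N·H) > 0`. -/
theorem pr_pos_of_section (hdim : topologicalKrullDim X = ((2 : ℕ) : WithBot ℕ∞)) {H N : X.Modules}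
    (hH : CohB1.IsAmple H) (hN : PicF.IsInvertible N) (hpos : 0 < pr k N N) {n : ℕ} (hn : 0 < n)
    (hs : Nontrivial (Coh.HH X (CohB1.tensorPow N n) 0)) : 0 < pr k N H := by
  obtain ⟨c, hc⟩ := exists_ne (0 : Coh.HH X (CohB1.tensorPow N n) 0)
  have h := pr_nonneg_of_section k hdim.le (AmpleLib.isInvertible_tensorPow hN n) hH
    ((ShStabLib.BC.secEquiv k (CohB1.tensorPow N n)).symm c)
    fun h => hc ((LinearEquiv.map_eq_zero_iff _).1 h)
  rw [pr_pow_left k hdim.le hN hH.1 n] at h
  have h1 : 0 ≤ pr k N H := nonneg_of_mul_nonneg_right h (by exact_mod_cast hn)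
  exact lt_of_le_of_ne h1 (Ne.symm (pr_ne_zero k hdim hH hN hpos))

/-- `(L·M) = 0` and `(L·L) > 0` force `(M·M) ≤ 0`. -/
theorem pr_self_nonpos_of_pos (hdim : topologicalKrullDim X = ((2 : ℕ) : WithBot ℕ∞))
    {H L M : X.Modules} (hH : CohB1.IsAmple H) (hL : PicF.IsInvertible L) (hM : PicF.IsInvertible M)
    (hpos : 0 < pr k L L) (horth : pr k L M = 0) : pr k M M ≤ 0 := by
  have ha := pr_ne_zero k hdim hH hL hpos
  obtain ⟨P, hP, hPC⟩ := exists_comb k hdim.le hM hL (pr k L H) (-pr k M H)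
  have h := pr_self_nonpos k hdim hH hP (by rw [hPC H hH.1]; ring)
  rw [hPC P hP, pr_comm k M P, pr_comm k L P, hPC M hM, hPC L hL, horth, pr_comm k M L, horth] at h
  have h2 : 0 < pr k L H ^ 2 := by positivity
  by_contra hlt
  push Not at hlt
  nlinarith [mul_pos h2 hlt, mul_nonneg (sq_nonneg (pr k M H)) hpos.le]

end Groth.Agent.HodgeIdx81
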