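import Groth.Agent.HodgeIdx81.Surface
import Groth.Agent.EulerChar.AmpleCurve
import Groth.Agent.EulerChar.CurvePoint
import Groth.Agent.EulerChar.Cartier
import Groth.Agent.RedSub.Basic
import Groth.Agent.PicLaw.Swap
import Groth.Agent.KFlat.FlatPull
import Groth.Agent.S9816
import Groth.Agent.S1582
import Groth.Agent.S4643
import Groth.Agent.S12131
import Groth.Agent.S1561
import Groth.Agent.S8914
import Groth.Prelude.Def_Curve

/-!
# Intersection numbers on a product of two curves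
-/

universe u

open CategoryTheory CategoryTheory.Limits AlgebraicGeometry TopologicalSpace

set_option linter.style.haveILetI false

noncomputable section

namespace Groth.Agent.HodgeIdx81

attribute [local irreducible] Curv2.euler

open ProjTwist

section Key

variable (k : Type u) [Field k] {X : Scheme.{u}} [X.Over (Spec (CommRingCat.of k))]
  [IsProper (X ↘ Spec (CommRingCat.of k))]

/-- The intersection with an ideal is minus the degree on the subscheme. -/
theorem pr_of_seq {Y : Scheme.{u}} [Y.Over (Spec (CommRingCat.of k))] (j : Y ⟶ X) [IsClosedImmersion j]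
    (w : j ≫ (X ↘ Spec (CommRingCat.of k)) = Y ↘ Spec (CommRingCat.of k))
    {S : ShortComplex X.Modules} (hS : S.ShortExact) {P L : X.Modules} (hP : PicF.IsInvertible P)
    (hL : PicF.IsInvertible L) (e₁ : S.X₁ ≅ P) (e₂ : S.X₂ ≅ Coh.structureModule X)
    (e₃ : S.X₃ ≅ (Scheme.Modules.pushforward j).obj (Coh.structureModule Y)) :
    pr k P L = -Curv2.deg k Y ((Scheme.Modules.pullback j).obj L) 1 := by
  haveI := EulerChar.isNoetherian k (X := X)
  have h₁ : Coh.IsCoh S.X₁ :=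
    CohDev.isCoh_of_iso e₁.symm (VBLib.isCoh_of_ofRank (isFinLocFreeOfRank_one hP))
  have h₂ : Coh.IsCoh S.X₂ := CohDev.isCoh_of_iso e₂.symm (ProperFin.isCoh_structureModule X)
  have h₃ : Coh.IsCoh S.X₃ := by
    haveI := hS.epi_g
    exact CohDev.isCoh_of_iso ((cokernelIsCokernel S.f).coconePointUniqueUpToIso hS.gIsCokernel)
      (CohDev.isCoh_cokernel S.f h₁.1 h₂)
  have hA := EulerChar.euler_add k hS h₁ h₂ h₃
  have hB : Curv2.euler k X (CohB1.tensorMod L S.X₂) =
      Curv2.euler k X (CohB1.tensorMod L S.X₁) + Curv2.euler k X (CohB1.tensorMod L S.X₃) :=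
    euler_tens_add k hL hS h₁ h₂ h₃
  haveI : (Coh.structureModule Y).IsQuasicoherent := isQuasicoherent_structureModule Y
  haveI : ((Scheme.Modules.pullback j).obj L).IsQuasicoherent :=
    isQCoh_of_isInvertible (PicCl.isInvertible_pullback j hL)
  rw [EulerChar.euler_iso k e₁, EulerChar.euler_iso k e₂, EulerChar.euler_iso k e₃,
    EulerChar.euler_push j w _ inferInstance] at hA
  rw [EulerChar.euler_iso k (tensCongr (Iso.refl L) e₁),
    EulerChar.euler_iso k (tensCongr (Iso.refl L) e₂ ≪≫ tensOne L),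
    EulerChar.euler_iso k (tensCongr (Iso.refl L) e₃ ≪≫ EulerChar.tensQuotIso j L),
    EulerChar.euler_push j w _ inferInstance, EulerChar.euler_iso k (tensComm L P)] at hB
  rw [pr, Curv2.deg]
  push_cast
  linarith

end Key

section Point

variable (k : Type u) [Field k] [IsAlgClosed k] (C : Scheme.{u}) [C.Over (Spec (CommRingCat.of k))]
  [IsIntegral C] [IsProper (C ↘ Spec (CommRingCat.of k))] [Smooth (C ↘ Spec (CommRingCat.of k))]

/-- A rational point of a smooth curve: an ample class of degree one and the ideal sequence. -/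
theorem exists_point_class (hdim : topologicalKrullDim C = 1) (x : Spec (CommRingCat.of k) ⟶ C)
    (hx : x ≫ (C ↘ Spec (CommRingCat.of k)) = 𝟙 _) :
    ∃ (K A : C.Modules) (D : C.IdealSheafData) (t : Spec (CommRingCat.of k) ⟶ D.subscheme),
      IsIso t ∧ t ≫ D.subschemeι = x ∧
      PicF.IsInvertible K ∧ Nonempty (ClSub.idealMod D ≅ K) ∧ PicF.IsInvertible A ∧
      Nonempty (CohB1.tensorMod A K ≅ Coh.structureModule C) ∧ CohB1.IsAmple A ∧
      Curv2.deg k C A 1 = 1 := by
  haveI := EulerChar.isNoetherian k (X := C)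
  haveI : IsClosedImmersion (x ≫ (C ↘ Spec (CommRingCat.of k))) := by rw [hx]; infer_instance
  haveI : IsClosedImmersion x := IsClosedImmersion.of_comp x (C ↘ Spec (CommRingCat.of k))
  let z := x (IsLocalRing.closedPoint k)
  haveI : Subsingleton ↥(Spec (CommRingCat.of k)) := inferInstanceAs (Subsingleton (PrimeSpectrum k))
  have hrange : Set.range x = {z} :=
    Set.eq_singleton_iff_unique_mem.2
      ⟨⟨_, rfl⟩, by rintro _ ⟨a, rfl⟩; exact congrArg x (Subsingleton.elim _ _)⟩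
  have hc : IsClosed ({z} : Set C) := hrange ▸ x.isClosedEmbedding.isClosed_range
  have hker : x.ker = IntMult.ptIdeal z :=
    RedSub.ker_eq_vanishingIdeal x _ (hrange.trans hc.closure_eq.symm)
  have hp : (IsLocalRing.maximalIdeal (C.presheaf.stalk z)).IsPrincipal := by
    obtain ⟨hiff, -⟩ := S1561.result k C
    haveI := (hiff z).1 (by rw [Scheme.Hom.smoothLocus_eq_top]; trivial)
    haveI : IsDiscreteValuationRing (C.presheaf.stalk z) :=
      CurveDVR.isDiscreteValuationRing_of_regular _ (by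
        rw [ringKrullDim_stalk_eq_coheight,
          CurveDVR.coheight_eq_one (C ↘ Spec (CommRingCat.of k)) hdim hc]
        rfl)
    infer_instance
  have hD : BlowUp.IsEffCartierIdeal x.ker :=
    hker.symm ▸ EulerChar.isEffCartier_ptIdeal k hdim hc hp
  have hK : PicF.IsInvertible (ClSub.idealMod x.ker) := (S8914.result x.ker).mpr hD
  obtain ⟨A, hA, ⟨e⟩⟩ := PicLaw.exists_inverse hK
  have hdeg : Curv2.deg k C A 1 = 1 := by
    rw [EulerChar.deg_inverse_ideal x.ker k hdim.le hD hA (tensComm _ _ ≪≫ e), hker,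
      EulerChar.finrank_quotMod_ptIdeal k z]
    rfl
  exact ⟨_, A, x.ker, x.toImage, inferInstanceAs (IsIso x.toImage), x.toImage_imageι, hK,
    ⟨Iso.refl _⟩, hA, ⟨tensComm _ _ ≪≫ e⟩,
    EulerChar.isAmple_of_deg_pos k hdim hA (by rw [hdeg]; norm_num), hdeg⟩

end Point

section Prod

variable (k : Type u) [Field k] [IsAlgClosed k] {P C D : Scheme.{u}} [P.Over (Spec (CommRingCat.of k))]
  [C.Over (Spec (CommRingCat.of k))] [D.Over (Spec (CommRingCat.of k))]
  [IsProper (P ↘ Spec (CommRingCat.of k))] [IsIntegral C] [IsProper (C ↘ Spec (CommRingCat.of k))]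
  [Smooth (C ↘ Spec (CommRingCat.of k))]

/-- The class of the fibres of a projection through a rational point. -/
theorem exists_fibre_class (hdim : topologicalKrullDim C = 1)
    (hP2 : topologicalKrullDim P ≤ ((2 : ℕ) : WithBot ℕ∞)) {p : P ⟶ C} {q : P ⟶ D} [Flat p]
    (hsq : IsPullback p q (C ↘ Spec (CommRingCat.of k)) (D ↘ Spec (CommRingCat.of k)))
    (hw : p ≫ (C ↘ Spec (CommRingCat.of k)) = P ↘ Spec (CommRingCat.of k))
    [IsSeparated q] (x : Spec (CommRingCat.of k) ⟶ C) (hx : x ≫ (C ↘ Spec (CommRingCat.of k)) = 𝟙 _)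
    (i : D ⟶ P) (hiq : i ≫ q = 𝟙 D) (hip : i ≫ p = (D ↘ Spec (CommRingCat.of k)) ≫ x) :
    ∃ A : C.Modules, CohB1.IsAmple A ∧ Curv2.deg k C A 1 = 1 ∧
      (∀ L : P.Modules, PicF.IsInvertible L →
        pr k ((Scheme.Modules.pullback p).obj A) L =
          Curv2.deg k D ((Scheme.Modules.pullback i).obj L) 1) ∧
      Nonempty ((Scheme.Modules.pullback i).obj ((Scheme.Modules.pullback p).obj A) ≅
        Coh.structureModule D) := by
  obtain ⟨K, A, Z, t, ht, htι, hK, ⟨eK⟩, hA, ⟨eA⟩, hamp, hdeg⟩ := exists_point_class k C hdim x hx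
  haveI : IsClosedImmersion (i ≫ q) := by rw [hiq]; infer_instance
  haveI : IsClosedImmersion i := IsClosedImmersion.of_comp i q
  have hwi : i ≫ (P ↘ Spec (CommRingCat.of k)) = D ↘ Spec (CommRingCat.of k) := by
    rw [← hw, ← Category.assoc, hip, Category.assoc, hx, Category.comp_id]
  have hbig : IsPullback i (D ↘ Spec (CommRingCat.of k)) p x := by
    refine IsPullback.of_right (h₁₂ := q) (h₂₂ := C ↘ Spec (CommRingCat.of k))
      (v₁₃ := D ↘ Spec (CommRingCat.of k)) ?_ hip hsq.flip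
    rw [hiq, hx]
    exact IsPullback.of_horiz_isIso ⟨by simp⟩
  have hsq' : IsPullback ((D ↘ Spec (CommRingCat.of k)) ≫ t) i Z.subschemeι p := by
    refine (hbig.of_iso (Iso.refl _) (Iso.refl _) (asIso t) (Iso.refl _) ?_ ?_ ?_ ?_).flip
    all_goals simp [htι]
  haveI : IsAffineHom Z.subschemeι := inferInstance
  haveI : Coh.IsQCoh (Coh.structureModule Z.subscheme) := isQuasicoherent_structureModule _
  have hbc := S12131.result Z.subschemeι p ((D ↘ Spec (CommRingCat.of k)) ≫ t) i hsq'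
    (Coh.structureModule Z.subscheme)
  haveI := hbc
  have hS := (EulerChar.shortExact_ideal Z).map_of_exact (Scheme.Modules.pullback p)
  let P₁ := (Scheme.Modules.pullback p).obj K
  have hP₁ : PicF.IsInvertible P₁ := PicCl.isInvertible_pullback p hK
  let F := (Scheme.Modules.pullback p).obj A
  have hF : PicF.IsInvertible F := PicCl.isInvertible_pullback p hA
  have eF : CohB1.tensorMod P₁ F ≅ Coh.structureModule P :=
    (KFlat.PullTensor.pullTensorIso p K A).symm ≪≫
      (Scheme.Modules.pullback p).mapIso (tensComm K A ≪≫ eA) ≪≫ QCoh.pullbackUnitIso p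
  refine ⟨A, hamp, hdeg, fun L hL => ?_, ?_⟩
  · have h := pr_of_seq k i hwi hS hP₁ hL ((Scheme.Modules.pullback p).mapIso eK)
      (QCoh.pullbackUnitIso p)
      (@asIso _ _ _ _ _ hbc ≪≫ (Scheme.Modules.pushforward i).mapIso (QCoh.pullbackUnitIso _))
    rw [pr_inv_left k hP2 hP₁ hF hL eF, h, neg_neg]
  · haveI : Subsingleton ↥(Spec (CommRingCat.of k)) := inferInstanceAs (Subsingleton (PrimeSpectrum k))
    haveI : Nonempty ↥(Spec (CommRingCat.of k)) := ⟨IsLocalRing.closedPoint k⟩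
    obtain ⟨e⟩ := PicLaw.nonempty_iso_of_subsingleton (PicCl.isInvertible_pullback x hA)
    exact ⟨(Scheme.Modules.pullbackComp i p).app A ≪≫ (Scheme.Modules.pullbackCongr hip).app A ≪≫
      ((Scheme.Modules.pullbackComp (D ↘ Spec (CommRingCat.of k)) x).app A).symm ≪≫
      (Scheme.Modules.pullback (D ↘ Spec (CommRingCat.of k))).mapIso e ≪≫ QCoh.pullbackUnitIso _⟩

end Prod

/-- The data for the inequalities on a product of curves. -/
theorem exists_orth (k : Type u) [Field k] [IsAlgClosed k] {C₁ C₂ : Scheme.{u}}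
    [C₁.Over (Spec (CommRingCat.of k))] [C₂.Over (Spec (CommRingCat.of k))]
    (h₁ : Curve.IsSmoothProperCurve k C₁ (C₁ ↘ Spec (CommRingCat.of k)))
    (h₂ : Curve.IsSmoothProperCurve k C₂ (C₂ ↘ Spec (CommRingCat.of k)))
    (x : Spec (CommRingCat.of k) ⟶ C₁) (hx : x ≫ (C₁ ↘ Spec (CommRingCat.of k)) = 𝟙 _)
    (y : Spec (CommRingCat.of k) ⟶ C₂) (hy : y ≫ (C₂ ↘ Spec (CommRingCat.of k)) = 𝟙 _)
    (i₁ : C₁ ⟶ pullback (C₁ ↘ Spec (CommRingCat.of k)) (C₂ ↘ Spec (CommRingCat.of k)))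
    (hi₁ : i₁ ≫ pullback.fst _ _ = 𝟙 C₁ ∧
      i₁ ≫ pullback.snd _ _ = (C₁ ↘ Spec (CommRingCat.of k)) ≫ y)
    (i₂ : C₂ ⟶ pullback (C₁ ↘ Spec (CommRingCat.of k)) (C₂ ↘ Spec (CommRingCat.of k)))
    (hi₂ : i₂ ≫ pullback.snd _ _ = 𝟙 C₂ ∧
      i₂ ≫ pullback.fst _ _ = (C₂ ↘ Spec (CommRingCat.of k)) ≫ x) :
    letI : (pullback (C₁ ↘ Spec (CommRingCat.of k)) (C₂ ↘ Spec (CommRingCat.of k))).Over
        (Spec (CommRingCat.of k)) := ⟨pullback.fst _ _ ≫ (C₁ ↘ Spec (CommRingCat.of k))⟩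
    ∃ (_ : IsProper ((pullback (C₁ ↘ Spec (CommRingCat.of k)) (C₂ ↘ Spec (CommRingCat.of k))) ↘
          Spec (CommRingCat.of k)))
      (_ : IsIntegral (pullback (C₁ ↘ Spec (CommRingCat.of k)) (C₂ ↘ Spec (CommRingCat.of k))))
      (H : (pullback (C₁ ↘ Spec (CommRingCat.of k)) (C₂ ↘ Spec (CommRingCat.of k))).Modules),
      topologicalKrullDim ↥(pullback (C₁ ↘ Spec (CommRingCat.of k)) (C₂ ↘ Spec (CommRingCat.of k))) =
          ((2 : ℕ) : WithBot ℕ∞) ∧ CohB1.IsAmple H ∧
      ∀ L L' : (pullback (C₁ ↘ Spec (CommRingCat.of k)) (C₂ ↘ Spec (CommRingCat.of k))).Modules,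
        PicF.IsInvertible L → PicF.IsInvertible L' →
        ∃ E E', PicF.IsInvertible E ∧ PicF.IsInvertible E' ∧ pr k E H = 0 ∧ pr k E' H = 0 ∧
          pr k E E = pr k L L - 2 * Curv2.deg k C₁ ((Scheme.Modules.pullback i₁).obj L) 1 *
            Curv2.deg k C₂ ((Scheme.Modules.pullback i₂).obj L) 1 ∧
          pr k E' E' = pr k L' L' - 2 * Curv2.deg k C₁ ((Scheme.Modules.pullback i₁).obj L') 1 *
            Curv2.deg k C₂ ((Scheme.Modules.pullback i₂).obj L') 1 ∧
          pr k E E' = pr k L L' -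
              Curv2.deg k C₁ ((Scheme.Modules.pullback i₁).obj L) 1 *
                Curv2.deg k C₂ ((Scheme.Modules.pullback i₂).obj L') 1 -
              Curv2.deg k C₂ ((Scheme.Modules.pullback i₂).obj L) 1 *
                Curv2.deg k C₁ ((Scheme.Modules.pullback i₁).obj L') 1 := by
  obtain ⟨hp₁, hs₁, hI₁, hd₁⟩ := h₁
  obtain ⟨hp₂, hs₂, hI₂, hd₂⟩ := h₂
  haveI := hp₁; haveI := hs₁; haveI := hI₁; haveI := hp₂; haveI := hs₂; haveI := hI₂
  letI : (pullback (C₁ ↘ Spec (CommRingCat.of k)) (C₂ ↘ Spec (CommRingCat.of k))).Over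
      (Spec (CommRingCat.of k)) := ⟨pullback.fst _ _ ≫ (C₁ ↘ Spec (CommRingCat.of k))⟩
  let S := pullback (C₁ ↘ Spec (CommRingCat.of k)) (C₂ ↘ Spec (CommRingCat.of k))
  haveI hP : IsProper (S ↘ Spec (CommRingCat.of k)) :=
    inferInstanceAs (IsProper (pullback.fst _ _ ≫ (C₁ ↘ Spec (CommRingCat.of k))))
  haveI hint : IsIntegral S :=
    S1582.result k C₁ C₂ (C₁ ↘ Spec (CommRingCat.of k)) (C₂ ↘ Spec (CommRingCat.of k))
  have hdim : topologicalKrullDim S = ((2 : ℕ) : WithBot ℕ∞) := by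
    rw [S4643.result, hd₁, hd₂]
    norm_num
  haveI : Flat (pullback.fst (C₁ ↘ Spec (CommRingCat.of k)) (C₂ ↘ Spec (CommRingCat.of k))) :=
    inferInstance
  haveI : Flat (pullback.snd (C₁ ↘ Spec (CommRingCat.of k)) (C₂ ↘ Spec (CommRingCat.of k))) :=
    inferInstance
  obtain ⟨A, hA, hdA, hAL, ⟨eA⟩⟩ := exists_fibre_class k hd₁ hdim.le
    (p := pullback.fst _ _) (q := pullback.snd _ _) (IsPullback.of_hasPullback _ _) rfl x hx i₂
    hi₂.1 hi₂.2
  obtain ⟨B, hB, hdB, hBL, ⟨eB⟩⟩ := exists_fibre_class k hd₂ hdim.le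
    (p := pullback.snd _ _) (q := pullback.fst _ _) (IsPullback.of_hasPullback _ _).flip
    pullback.condition.symm y hy i₁ hi₁.1 hi₁.2
  let F := (Scheme.Modules.pullback (pullback.fst (C₁ ↘ Spec (CommRingCat.of k))
    (C₂ ↘ Spec (CommRingCat.of k)))).obj A
  let G := (Scheme.Modules.pullback (pullback.snd (C₁ ↘ Spec (CommRingCat.of k))
    (C₂ ↘ Spec (CommRingCat.of k)))).obj B
  have hF : PicF.IsInvertible F := PicCl.isInvertible_pullback _ hA.1
  have hG : PicF.IsInvertible G := PicCl.isInvertible_pullback _ hB.1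
  have degO : ∀ (C : Scheme.{u}) [C.Over (Spec (CommRingCat.of k))],
      Curv2.deg k C (Coh.structureModule C) 1 = 0 := fun C _ => by simp [Curv2.deg]
  have hFF : pr k F F = 0 := by
    rw [hAL F hF, EulerChar.deg_iso k eA, degO]
  have hGG : pr k G G = 0 := by
    rw [hBL G hG, EulerChar.deg_iso k eB, degO]
  have hFG : pr k F G = 1 := by
    have e : (Scheme.Modules.pullback i₂).obj G ≅ B := (Scheme.Modules.pullbackComp i₂ _).app B ≪≫
      (Scheme.Modules.pullbackCongr hi₂.1).app B ≪≫ (Scheme.Modules.pullbackId C₂).app B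
    rw [hAL G hG, EulerChar.deg_iso k e, hdB]
  refine ⟨hP, hint, CohB1.tensorMod F G, hdim, S9816.result _ _ A B hA hB, fun L L' hL hL' => ?_⟩
  have hE : ∀ L : S.Modules, PicF.IsInvertible L → ∃ E, PicF.IsInvertible E ∧
      pr k E (CohB1.tensorMod F G) = 0 ∧ pr k E F = 0 ∧ pr k E G = 0 ∧
      ∀ M, PicF.IsInvertible M → pr k E M = pr k L M -
        Curv2.deg k C₁ ((Scheme.Modules.pullback i₁).obj L) 1 * pr k F M -
        Curv2.deg k C₂ ((Scheme.Modules.pullback i₂).obj L) 1 * pr k G M := fun L hL => by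
    set a := Curv2.deg k C₁ ((Scheme.Modules.pullback i₁).obj L) 1 with ha
    set b := Curv2.deg k C₂ ((Scheme.Modules.pullback i₂).obj L) 1 with hb
    obtain ⟨Q, hQ, hQC⟩ := exists_comb k hdim.le hF hG (-a) (-b)
    have hE := AmpleLib.isInvertible_tensorMod hL hQ
    have hform : ∀ M, PicF.IsInvertible M →
        pr k (CohB1.tensorMod L Q) M = pr k L M - a * pr k F M - b * pr k G M := fun M hM => by
      rw [pr_add_left k hdim.le hL hQ hM, hQC M hM]
      ring
    have hEF : pr k (CohB1.tensorMod L Q) F = 0 := by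
      rw [hform F hF, pr_comm k L F, hAL L hL, hFF, pr_comm k G F, hFG, ← hb]
      ring
    have hEG : pr k (CohB1.tensorMod L Q) G = 0 := by
      rw [hform G hG, pr_comm k L G, hBL L hL, hGG, hFG, ← ha]
      ring
    refine ⟨_, hE, ?_, hEF, hEG, hform⟩
    rw [pr_comm k _ (CohB1.tensorMod F G), pr_add_left k hdim.le hF hG hE, pr_comm k F, pr_comm k G,
      hEF, hEG, add_zero]
  obtain ⟨E, hEi, hEH, hEF, hEG, hform⟩ := hE L hL
  obtain ⟨E', hEi', hEH', hEF', hEG', hform'⟩ := hE L' hL'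
  refine ⟨E, E', hEi, hEi', hEH, hEH', ?_, ?_, ?_⟩
  · rw [hform E hEi, pr_comm k F E, pr_comm k G E, hEF, hEG, pr_comm k L E, hform L hL,
      hAL L hL, hBL L hL]
    ring
  · rw [hform' E' hEi', pr_comm k F E', pr_comm k G E', hEF', hEG', pr_comm k L' E', hform' L' hL',
      hAL L' hL', hBL L' hL']
    ring
  · rw [pr_comm k E E', hform' E hEi, pr_comm k F E, pr_comm k G E, hEF, hEG, pr_comm k L' E,
      hform L' hL', hAL L' hL', hBL L' hL']
    ring

end Groth.Agent.HodgeIdx81
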