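import Groth.Agent.HodgeIdx81.RR
import Groth.Agent.SurfProj.Ample
import Groth.Agent.AbSch51.InvSection
import Groth.Agent.VertInter.Comp
import Groth.Agent.AbVarLib.TransposeFinite

/-!
# An integral regular proper surface carries an ample class
-/

set_option autoImplicit false
set_option linter.style.haveILetI false

universe u

open CategoryTheory CategoryTheory.Limits AlgebraicGeometry

noncomputable section

namespace Groth.Agent.HodgeIdx81

theorem exists_ample (k : Type u) [Field k] {X : Scheme.{u}} [X.Over (Spec (CommRingCat.of k))]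
    [IsProper (X ↘ Spec (CommRingCat.of k))] [IsIntegral X]
    (hreg : ∀ x : X, IsRegularLocalRing (X.presheaf.stalk x))
    (hdim : topologicalKrullDim X = ((2 : ℕ) : WithBot ℕ∞)) : ∃ A : X.Modules, CohB1.IsAmple A := by
  refine (SurfProj.RegSurf.mk' k hreg fun Z hZ => ?_).exists_ample
  rw [irreducibleComponents_eq_singleton, Set.mem_singleton_iff] at hZ
  rw [hZ, IsHomeomorph.topologicalKrullDim_eq _ (Homeomorph.Set.univ X).isHomeomorph, hdim]
  rfl

variable (k : Type u) [Field k] {X : Scheme.{u}} [X.Over (Spec (CommRingCat.of k))]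
  [IsProper (X ↘ Spec (CommRingCat.of k))] [IsIntegral X]
  (hdim : topologicalKrullDim X = ((2 : ℕ) : WithBot ℕ∞))

attribute [local irreducible] Curv2.euler

include hdim in
/-- A class orthogonal to one of positive square, and of square zero, is numerically trivial. -/
theorem pr_eq_zero_of_orth {A L M : X.Modules} (hA : CohB1.IsAmple A) (hL : PicF.IsInvertible L)
    (hM : PicF.IsInvertible M) (hpos : 0 < pr k L L) (horth : pr k L M = 0) (hMM : pr k M M = 0)
    {B : X.Modules} (hB : PicF.IsInvertible B) : pr k M B = 0 := by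
  obtain ⟨P, hP, hPC⟩ := exists_comb k hdim.le hB hL (pr k L L) (-pr k B L)
  have hPL : pr k L P = 0 := by rw [pr_comm, hPC L hL]; ring
  have key : ∀ a : ℤ, 2 * a * pr k M P + pr k P P ≤ 0 := fun a => by
    obtain ⟨Q, hQ, hQC⟩ := exists_comb k hdim.le hM hP a 1
    have h := pr_self_nonpos_of_pos k hdim hA hL hQ hpos
      (by rw [pr_comm, hQC L hL, pr_comm k M L, horth, pr_comm k P L, hPL]; ring)
    rw [hQC Q hQ, pr_comm k M Q, pr_comm k P Q, hQC M hM, hQC P hP, hMM, pr_comm k P M] at h
    linarith
  have hMP : pr k M P = 0 := by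
    by_contra h0
    have h1 : 1 ≤ pr k M P * pr k M P := by
      have := mul_self_pos.2 h0
      omega
    nlinarith [key (pr k M P * (1 + |pr k P P|)), abs_nonneg (pr k P P), neg_abs_le (pr k P P)]
  rw [pr_comm, hPC M hM, horth, mul_zero, add_zero, pr_comm k B M] at hMP
  exact (mul_eq_zero.1 hMP).resolve_left hpos.ne'

include hdim in
/-- A class orthogonal to one of positive square has negative square unless numerically trivial. -/
theorem pr_self_neg_of_orth {A L M : X.Modules} (hA : CohB1.IsAmple A) (hL : PicF.IsInvertible L)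
    (hM : PicF.IsInvertible M) (hpos : 0 < pr k L L) (horth : pr k L M = 0) (hne : pr k A M ≠ 0) :
    pr k M M < 0 :=
  lt_of_le_of_ne (pr_self_nonpos_of_pos k hdim hA hL hM hpos horth) fun h =>
    hne (by rw [pr_comm]; exact pr_eq_zero_of_orth k hdim hA hL hM hpos horth h hA.1)

variable [IsAlgClosed k]

omit [IsIntegral X] in
/-- A curve without `H¹` has `χ = 1`. -/
theorem curve_euler_eq_one (C : X.IdealSheafData) [IsIntegral C.subscheme]
    (hC : topologicalKrullDim ↥(C.support : Set X) = ((1 : ℕ) : WithBot ℕ∞))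
    (h : Subsingleton (Coh.HH C.subscheme (Coh.structureModule C.subscheme) 1)) :
    Curv2.euler k X (ClSub.quotMod C) = 1 := by
  letI : C.subscheme.Over (Spec (CommRingCat.of k)) := ⟨C.subschemeι ≫ (X ↘ Spec (CommRingCat.of k))⟩
  haveI : IsProper (C.subscheme ↘ Spec (CommRingCat.of k)) :=
    inferInstanceAs (IsProper (C.subschemeι ≫ (X ↘ Spec (CommRingCat.of k))))
  haveI := EulerChar.isNoetherian k (X := C.subscheme)
  have hd : topologicalKrullDim C.subscheme ≤ ((1 : ℕ) : WithBot ℕ∞) := by
    rw [IsHomeomorph.topologicalKrullDim_eq _ C.subschemeι.isClosedEmbedding.isEmbedding.toHomeomorph.isHomeomorph,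
      C.range_subschemeι, hC]
  have h1 : Curv2.euler k X (ClSub.quotMod C) =
      Curv2.euler k C.subscheme (Coh.structureModule C.subscheme) :=
    EulerChar.euler_push C.subschemeι rfl _
      (inferInstance : (Coh.structureModule C.subscheme).IsQuasicoherent)
  rw [h1, EulerChar.euler_eq_sum k (M := Coh.structureModule C.subscheme) (t := 2) fun i hi =>
      CohTop.Vanishing.grothendieck_vanishing (X := C.subscheme.toPresheafedSpace.carrier) 1 hd
        (Coh.toAb (Coh.structureModule C.subscheme)) i (by omega),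
    Finset.sum_range_succ, Finset.sum_range_one, VBLib.finrank_H0_structure_eq_one
      VBLib.bijective_toGlobal_of_isAlgClosed, Module.finrank_zero_of_subsingleton]
  simp

include k in
omit [IsAlgClosed k] in
/-- The inverse of an effective divisor has a section, generating exactly off the divisor. -/
theorem exists_section_of_ideal {I : X.IdealSheafData} (hI : FGA.IsEffCartier I) :
    ∃ (M : X.Modules) (_ : PicF.IsInvertible M) (_ : CohB1.tensorMod (ClSub.idealMod I) M ≅ Coh.structureModule X)
      (s₁ : Coh.structureModule X ⟶ CohB1.tensorPow M 1), s₁ ≠ 0 ∧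
        (CohB1.genLocus _ s₁ : Set X) = (I.support : Set X)ᶜ ∧ genericPoint X ∈ CohB1.genLocus _ s₁ := by
  haveI := EulerChar.isNoetherian k (X := X)
  have hIi := IdealSh.IdealMod.isInvertible_of_isEffCartierIdeal I hI
  obtain ⟨M, hM, ⟨e⟩⟩ := PicLaw.exists_inverse hIi
  have eM : CohB1.tensorMod M (ClSub.idealMod I) ≅ Coh.structureModule X := ProjTwist.tensComm _ _ ≪≫ e
  obtain ⟨s₁, hs₁⟩ := AbSch51.InvSection.exists_section I hI hM ⟨eM⟩
  have hMp := AmpleLib.isInvertible_tensorPow hM 1
  have hgen : genericPoint X ∈ CohB1.genLocus _ s₁ := by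
    show genericPoint X ∈ (CohB1.genLocus _ s₁ : Set X)
    rw [hs₁]
    intro hη
    have htop : (I.support : Set X) = Set.univ := Set.eq_univ_of_univ_subset fun x _ =>
      I.support.isClosed.stableUnderSpecialization (genericPoint_specializes x) hη
    obtain ⟨U, hU, a, ha, haI⟩ := hI (genericPoint X)
    have h0 := I.coe_support_inter U
    rw [htop, Set.univ_inter, haI] at h0
    have h1 : genericPoint X ∈ X.zeroLocus (U := U.1) {a} := by
      rw [← Scheme.zeroLocus_span]
      exact (h0.le hU).1
    rw [Scheme.zeroLocus_def] at h1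
    simp only [Set.mem_singleton_iff, Set.iInter_iInter_eq_left, Set.mem_compl_iff] at h1
    haveI : Nonempty U.1 := ⟨⟨_, hU⟩⟩
    refine h1 (((genericPoint_spec X).mem_open_set_iff (X.basicOpen a).2).2 ?_)
    rw [Set.univ_inter]
    rw [Set.nonempty_iff_ne_empty]
    exact fun h => nonZeroDivisors.ne_zero ha (basicOpen_eq_bot_iff a |>.1 (SetLike.coe_injective h))
  have hs0 : s₁ ≠ 0 := fun h => by
    subst h
    have hb := (HilbPolyX.stalk_sec_bijective _ hgen).1
    obtain ⟨eO⟩ := EulerChar.stalk_ofRank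
      (ProjTwist.isFinLocFreeOfRank_one (PicLoc.isInvertible_structureModule X)) (genericPoint X)
    have : Subsingleton ((Coh.structureModule X).presheaf.stalk (genericPoint X)) := by
      refine ⟨fun a b => hb ?_⟩
      rw [CohDev.stalkLin_zero_apply, CohDev.stalkLin_zero_apply]
    have : Subsingleton (Fin 1 → X.presheaf.stalk (genericPoint X)) := eO.injective.subsingleton
    exact one_ne_zero (congrFun (Subsingleton.elim (1 : Fin 1 → X.presheaf.stalk (genericPoint X)) 0) 0)
  exact ⟨M, hM, e, s₁, hs0, hs₁, hgen⟩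

include hdim in
/-- A class nonnegative on curves is nonnegative on effective divisors. -/
theorem pr_ideal_nonneg (hreg : ∀ x : X, IsRegularLocalRing (X.presheaf.stalk x)) {B : X.Modules}
    (hB : PicF.IsInvertible B) (hBC : ∀ C : X.IdealSheafData, IsIntegral C.subscheme →
      topologicalKrullDim ↥(C.support : Set X) = ((1 : ℕ) : WithBot ℕ∞) → 0 ≤ pr k B (ClSub.idealMod C))
    {I : X.IdealSheafData} (hI : FGA.IsEffCartier I) : 0 ≤ pr k B (ClSub.idealMod I) := by
  have hIi := IdealSh.IdealMod.isInvertible_of_isEffCartierIdeal I hI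
  obtain ⟨M, hM, e, s, hs, -, -⟩ := exists_section_of_ideal k hI
  obtain ⟨t, m, ht, hp⟩ := pr_of_section k hreg hdim (AmpleLib.isInvertible_tensorPow hM 1) s hs
  have h := hp B hB
  have e1 : pr k B (CohB1.tensorPow M 1) = pr k B M :=
    pr_congr k (Iso.refl B) (ProjTwist.oneTens M : CohB1.tensorPow M 1 ≅ M)
  rw [e1, pr_comm,
    pr_inv_left k hdim.le hIi hM hB e, pr_comm, neg_inj] at h
  rw [h]
  exact Finset.sum_nonneg fun ξ hξ => mul_nonneg (Int.natCast_nonneg _) (hBC _ (ht ξ hξ).1 (ht ξ hξ).2.1)

include hdim in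
/-- A nonzero effective divisor is positive on ample classes. -/
theorem pr_ample_ideal_neg (hreg : ∀ x : X, IsRegularLocalRing (X.presheaf.stalk x)) {A : X.Modules}
    (hA : CohB1.IsAmple A) {I : X.IdealSheafData} (hI : FGA.IsEffCartier I) (hne : I ≠ ⊤) :
    pr k A (ClSub.idealMod I) < 0 := by
  haveI := EulerChar.isNoetherian k (X := X)
  have hIi := IdealSh.IdealMod.isInvertible_of_isEffCartierIdeal I hI
  obtain ⟨M, hM, e, s₁, hs0, hs₁, hgen⟩ := exists_section_of_ideal k hI
  let eP : CohB1.tensorPow M 1 ≅ M := ProjTwist.oneTens M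
  have hMp := AmpleLib.isInvertible_tensorPow hM 1
  have hp : pr k A (CohB1.tensorPow M 1) = -pr k A (ClSub.idealMod I) := by
    rw [pr_congr k (Iso.refl A) eP, pr_comm, pr_inv_left k hdim.le hIi hM hA.1 e, pr_comm]
  have hnn : 0 ≤ pr k A (CohB1.tensorPow M 1) := by
    rw [pr_comm]
    exact pr_nonneg_of_section k hdim.le hMp hA s₁ hs0
  rw [hp] at hnn
  refine lt_of_le_of_ne (by linarith) fun h0 => hne ?_
  have hn : Nontrivial (Coh.HH X (CohB1.tensorPow M 1) 0) :=
    nontrivial_of_ne _ _ fun h => hs0 ((LinearEquiv.map_eq_zero_iff (ShStabLib.BC.secEquiv k _)).1 h)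
  obtain ⟨φ⟩ := RR.iso_of_section k hdim hreg hA hMp hn (by rw [hp, h0, neg_zero])
  have h1 := AbVarLib.TransposeFinite.genLocus_eq_top
    (isField_of_universallyClosed (K := k) (X ↘ Spec (CommRingCat.of k))) φ s₁ ⟨_, hgen⟩
  refine (Scheme.IdealSheafData.support_eq_bot_iff I).1 (SetLike.coe_injective ?_)
  rw [← compl_compl (I.support : Set X), ← hs₁, h1]
  simp

end Groth.Agent.HodgeIdx81
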