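import Groth.Agent.HodgeIdx81.RealNakai
import Groth.Agent.SurfRR.Surface
import Groth.Agent.S14810

/-!
# Riemann-Roch and adjunction on a surface with an ample class
-/

set_option autoImplicit false
set_option linter.style.haveILetI false

universe u

open CategoryTheory CategoryTheory.Limits AlgebraicGeometry
open Groth.Agent.ProjTwist

noncomputable section

namespace Groth.Agent.HodgeIdx81.RR

attribute [local irreducible] Curv2.euler

variable (k : Type u) [Field k] [IsAlgClosed k] {X : Scheme.{u}} [X.Over (Spec (CommRingCat.of k))]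
  [IsProper (X ↘ Spec (CommRingCat.of k))] [IsIntegral X]
  (hdim : topologicalKrullDim X = ((2 : ℕ) : WithBot ℕ∞))
  (hreg : ∀ x : X, IsRegularLocalRing (X.presheaf.stalk x))
  {A : X.Modules} (hA : CohB1.IsAmple A)
  {W : X.Modules} (hW : ExtPow.IsExtPow 2 (Omega.sheaf (X ↘ Spec (CommRingCat.of k))) W)

omit [IsAlgClosed k] [IsIntegral X] in
theorem surfRR_pr (L M : X.Modules) : SurfRR.pr k L M = pr k L M := by
  rw [SurfRR.pr_eq, pr, EulerChar.euler_iso k (tensComm M L)]
  ring

section
include hdim hreg hA hW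

theorem setup : ∃ (n : ℕ) (ι : X ⟶ CohB1.ProjSpace n k), IsClosedImmersion ι ∧
    ι ≫ CohB1.ProjSpace.toSpec n k = X ↘ Spec (CommRingCat.of k) ∧
    SmoothOfRelativeDimension 2 (X ↘ Spec (CommRingCat.of k)) ∧ PicF.IsInvertible W ∧
    (∀ {L : X.Modules}, PicF.IsInvertible L →
      2 * Curv2.euler k X L = pr k L L - pr k L W + 2 * Curv2.euler k X (Coh.structureModule X)) ∧
    ∀ {L M : X.Modules}, PicF.IsInvertible L → (CohB1.tensorMod L M ≅ Coh.structureModule X) → ∀ p ≤ 2,
      Module.finrank k (Coh.HH X (CohB1.tensorMod M W) (2 - p)) = Module.finrank k (Coh.HH X L p) := by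
  obtain ⟨a, n, i, -, hi, hw, -⟩ := NumTriv.Section.exists_embedding_pow (k := k) hA
  haveI := hi
  haveI : SmoothOfRelativeDimension 2 (X ↘ Spec (CommRingCat.of k)) :=
    SurfRR.smoothRelDim_of_regular k (r := 2) hdim hreg
  refine ⟨n, i, hi, hw, inferInstance, SurfRR.isInvertible_canonical k i hw W hW, fun hL => ?_,
    fun hL e p hp => SurfRR.finrank_dual k i hw W hW hL e p hp⟩
  rw [← surfRR_pr k, ← surfRR_pr k]
  exact SurfRR.riemann_roch k i hw W hW hL

theorem isInvertible_canonical : PicF.IsInvertible W := by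
  obtain ⟨_, _, _, _, _, h, -⟩ := setup k hdim hreg hA hW
  exact h

theorem riemann_roch {L : X.Modules} (hL : PicF.IsInvertible L) :
    2 * Curv2.euler k X L = pr k L L - pr k L W + 2 * Curv2.euler k X (Coh.structureModule X) := by
  obtain ⟨_, _, _, _, _, _, h, -⟩ := setup k hdim hreg hA hW
  exact h hL

theorem finrank_dual {L M : X.Modules} (hL : PicF.IsInvertible L)
    (e : CohB1.tensorMod L M ≅ Coh.structureModule X) (p : ℕ) (hp : p ≤ 2) :
    Module.finrank k (Coh.HH X (CohB1.tensorMod M W) (2 - p)) = Module.finrank k (Coh.HH X L p) := by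
  obtain ⟨_, _, _, _, _, _, -, h⟩ := setup k hdim hreg hA hW
  exact h hL e p hp

/-- Adjunction for an integral curve. -/
theorem adjunction (C : X.IdealSheafData) (hI : PicF.IsInvertible (ClSub.idealMod C)) :
    pr k (ClSub.idealMod C) (ClSub.idealMod C) - pr k (ClSub.idealMod C) W =
      -2 * Curv2.euler k X (ClSub.quotMod C) := by
  have h1 := riemann_roch k hdim hreg hA hW hI
  haveI := EulerChar.isNoetherian k (X := X)
  have h2 := EulerChar.euler_add' k (ClSub.idealModι C) (ClSub.toSubscheme C) (kernel.condition _)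
    (EulerChar.shortExact_ideal C) (VBLib.isCoh_of_isFinLocFree (ProjForm.isFinLocFree_of_isInvertible hI))
    (SurfRR.isCoh_structure k) (EulerChar.isCoh_quotMod k _)
  change Curv2.euler k X (Coh.structureModule X) = _ at h2
  linarith

end

omit [IsAlgClosed k] in
include hdim in
/-- `χ(M) ≤ h⁰(M) + h²(M)`. -/
theorem euler_le (M : X.Modules) : Curv2.euler k X M ≤
    (Module.finrank k (Coh.HH X M 0) : ℤ) + Module.finrank k (Coh.HH X M 2) :=
  HodgeIdx81.euler_le k hdim.le M

include hdim hreg hA in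
/-- A module with a section and of degree zero against an ample class is trivial. -/
theorem iso_of_section {M : X.Modules} (hM : PicF.IsInvertible M)
    (hn : Nontrivial (Coh.HH X M 0)) (h0 : pr k A M = 0) : Nonempty (M ≅ Coh.structureModule X) := by
  obtain ⟨c, hc⟩ := exists_ne (0 : Coh.HH X M 0)
  have hφ : (ShStabLib.BC.secEquiv k M).symm c ≠ 0 := fun h => hc ((LinearEquiv.map_eq_zero_iff _).1 h)
  obtain ⟨s, m, hs, hp⟩ := pr_of_section k hreg hdim hM _ hφ
  have hneg : ∀ ξ ∈ s, pr k A (ClSub.idealMod (IntMult.ptIdeal ξ)) < 0 := fun ξ hξ => by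
    haveI := (hs ξ hξ).1
    exact RealNakai.pr_ample_curve k hA _ (hs ξ hξ).2.1 (hs ξ hξ).2.2
  have hm : ∀ ξ ∈ s, (m ξ : ℤ) = 0 := fun ξ hξ => by
    have h1 := hp A hA.1
    rw [h0, eq_comm, neg_eq_zero] at h1
    have h2 := (Finset.sum_eq_zero_iff_of_nonpos fun η hη =>
      mul_nonpos_of_nonneg_of_nonpos (Int.natCast_nonneg (m η)) (hneg η hη).le).1 h1 ξ hξ
    exact (mul_eq_zero.1 h2).resolve_right (hneg ξ hξ).ne
  refine S14810.result k X (isField_of_universallyClosed (K := k) (X ↘ Spec (CommRingCat.of k))) M hM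
    (isNumEquivZero_of_pr k hreg hdim hM fun B hB => ?_) _ hφ
  rw [pr_comm, hp B hB, Finset.sum_eq_zero fun ξ hξ => by rw [hm ξ hξ, zero_mul], neg_zero]

omit [IsIntegral X] in
/-- An integral curve has `χ ≤ 1`, with equality only for genus zero. -/
theorem curve_euler (C : X.IdealSheafData) [IsIntegral C.subscheme]
    (hC : topologicalKrullDim ↥(C.support : Set X) = ((1 : ℕ) : WithBot ℕ∞)) :
    Curv2.euler k X (ClSub.quotMod C) ≤ 1 ∧ (Curv2.euler k X (ClSub.quotMod C) = 1 →
      Subsingleton (Coh.HH C.subscheme (Coh.structureModule C.subscheme) 1)) := by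
  letI : C.subscheme.Over (Spec (CommRingCat.of k)) := ⟨C.subschemeι ≫ (X ↘ Spec (CommRingCat.of k))⟩
  haveI : IsProper (C.subscheme ↘ Spec (CommRingCat.of k)) :=
    inferInstanceAs (IsProper (C.subschemeι ≫ (X ↘ Spec (CommRingCat.of k))))
  haveI := EulerChar.isNoetherian k (X := C.subscheme)
  have hd : topologicalKrullDim C.subscheme ≤ ((1 : ℕ) : WithBot ℕ∞) := by
    rw [IsHomeomorph.topologicalKrullDim_eq _ C.subschemeι.isClosedEmbedding.isEmbedding.toHomeomorph.isHomeomorph,
      C.range_subschemeι, hC]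
  have h1 : Curv2.euler k X (ClSub.quotMod C) =
      Curv2.euler k C.subscheme (Coh.structureModule C.subscheme) :=
    EulerChar.euler_push C.subschemeι rfl _
      (inferInstance : (Coh.structureModule C.subscheme).IsQuasicoherent)
  rw [h1, EulerChar.euler_eq_sum k (M := Coh.structureModule C.subscheme) (t := 2) fun i hi =>
      CohTop.Vanishing.grothendieck_vanishing (X := C.subscheme.toPresheafedSpace.carrier) 1 hd
        (Coh.toAb (Coh.structureModule C.subscheme)) i (by omega),
    Finset.sum_range_succ, Finset.sum_range_one, VBLib.finrank_H0_structure_eq_one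
      VBLib.bijective_toGlobal_of_isAlgClosed]
  refine ⟨by simp, fun h => ?_⟩
  haveI := EulerChar.finite_HH k (Coh.structureModule C.subscheme) (SurfRR.isCoh_structure k) 1
  refine (Module.finrank_eq_zero_iff_of_free k _).1 ?_
  simp at h
  exact h

omit [IsAlgClosed k] in
theorem finrank_eq_zero_of_subsingleton {M : X.Modules} {i : ℕ} (h : Subsingleton (Coh.HH X M i)) :
    Module.finrank k (Coh.HH X M i) = 0 :=
  Module.finrank_zero_of_subsingleton

include hdim in
/-- `χ(O) = 1 + h²(O)` when `h¹(O) = 0`. -/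
theorem euler_structure (hq : Module.finrank k (Coh.HH X (Coh.structureModule X) 1) = 0) :
    Curv2.euler k X (Coh.structureModule X) =
      1 + (Module.finrank k (Coh.HH X (Coh.structureModule X) 2) : ℤ) := by
  rw [SurfRR.euler_eq_three k hdim.le, hq,
    VBLib.finrank_H0_structure_eq_one VBLib.bijective_toGlobal_of_isAlgClosed]
  push_cast
  ring

end Groth.Agent.HodgeIdx81.RR
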