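import Groth.Agent.HodgeIdx81.Sub
import Groth.Agent.VBLib.GenusZero
import Groth.Agent.ExtPowSt.Exists

/-!
# Vanishing of the first cohomology of divisors of nonpositive genus
-/

set_option autoImplicit false
set_option linter.style.haveILetI false

universe u

open CategoryTheory CategoryTheory.Limits AlgebraicGeometry
open Groth.Agent.ProjTwist

noncomputable section

namespace Groth.Agent.HodgeIdx81.Rational

attribute [local irreducible] Curv2.euler

variable (k : Type u) [Field k] [IsAlgClosed k] {X : Scheme.{u}} [X.Over (Spec (CommRingCat.of k))]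
  [IsProper (X ↘ Spec (CommRingCat.of k))]

omit [IsAlgClosed k] in
include k in
theorem subsingleton_h1_of_shortExact {S : ShortComplex X.Modules} (hS : S.ShortExact)
    (h₁ : Subsingleton (Coh.HH X S.X₁ 1)) (h₃ : Subsingleton (Coh.HH X S.X₃ 1)) :
    Subsingleton (Coh.HH X S.X₂ 1) := by
  refine subsingleton_of_forall_eq 0 fun y => ?_
  obtain ⟨z, hz⟩ := ((CurveCoh.exact_mapL k hS 1) y).mp (Subsingleton.elim _ _)
  rw [← hz, Subsingleton.elim z 0, map_zero]

/-- On a rational curve, degree at least `-1` kills `H¹`. -/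
theorem curve_h1 (C : X.IdealSheafData) [IsIntegral C.subscheme]
    (hC : topologicalKrullDim ↥(C.support : Set X) = ((1 : ℕ) : WithBot ℕ∞))
    (hχ : Curv2.euler k X (ClSub.quotMod C) = 1) {M : X.Modules} (hM : PicF.IsInvertible M)
    (hdeg : -1 ≤ NumTriv.deg1 k (ClSub.quotMod C) M) :
    Subsingleton (Coh.HH X (CohB1.tensorMod M (ClSub.quotMod C)) 1) := by
  letI : C.subscheme.Over (Spec (CommRingCat.of k)) := ⟨C.subschemeι ≫ (X ↘ Spec (CommRingCat.of k))⟩
  haveI : IsProper (C.subscheme ↘ Spec (CommRingCat.of k)) :=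
    inferInstanceAs (IsProper (C.subschemeι ≫ (X ↘ Spec (CommRingCat.of k))))
  haveI := EulerChar.isNoetherian k (X := C.subscheme)
  have hd : topologicalKrullDim C.subscheme = 1 := by
    rw [IsHomeomorph.topologicalKrullDim_eq _ (C.subschemeι.isEmbedding.toHomeomorph.trans
      (Homeomorph.setCongr C.range_subschemeι)).isHomeomorph]
    exact hC.trans rfl
  let P := (Scheme.Modules.pullback C.subschemeι).obj M
  have hP : PicF.IsInvertible P := PicCl.isInvertible_pullback _ hM
  have hPq : Coh.IsQCoh P := ProjTwist.isQCoh_of_isInvertible hP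
  have h1O : Subsingleton (Coh.HH C.subscheme (Coh.structureModule C.subscheme) 1) :=
    (RR.curve_euler k C hC).2 hχ
  have hχO : Curv2.euler k C.subscheme (Coh.structureModule C.subscheme) = 1 :=
    (EulerChar.euler_push C.subschemeι rfl _
      (inferInstance : (Coh.structureModule C.subscheme).IsQuasicoherent)).symm.trans hχ
  have hdeg' : Curv2.euler k C.subscheme P - Curv2.euler k C.subscheme (Coh.structureModule C.subscheme) =
      NumTriv.deg1 k (ClSub.quotMod C) M := by
    have e3 := BigVol.CurveTest.euler_sub_eq_deg k C hM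
    simp only [Curv2.deg, Nat.cast_one, one_mul] at e3
    exact e3.symm
  have hsum : Curv2.euler k C.subscheme P =
      (Module.finrank k (Coh.HH C.subscheme P 0) : ℤ) - Module.finrank k (Coh.HH C.subscheme P 1) := by
    rw [EulerChar.euler_eq_sum k (M := P) (t := 2) fun i hi =>
      CohTop.Vanishing.grothendieck_vanishing (X := C.subscheme.toPresheafedSpace.carrier) 1 hd.le
        (Coh.toAb P) i (by omega), Finset.sum_range_succ, Finset.sum_range_one]
    simp [sub_eq_add_neg]
  let e : CohB1.tensorMod M (ClSub.quotMod C) ≅ (Scheme.Modules.pushforward C.subschemeι).obj P :=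
    EulerChar.tensQuotIso C.subschemeι M
  obtain ⟨E⟩ := EulerChar.nonempty_pushEquiv (A := k) C.subschemeι rfl P hPq 1
  suffices h : Subsingleton (Coh.HH C.subscheme P 1) by
    haveI : Subsingleton (Coh.HH X ((Scheme.Modules.pushforward C.subschemeι).obj P) 1) :=
      E.toEquiv.subsingleton
    exact AmpCrit.subsingleton_HH_of_iso e.symm 1
  haveI := EulerChar.finite_HH k P (VBLib.isCoh_of_ofRank (isFinLocFreeOfRank_one hP)) 1
  by_cases hn : Nontrivial (Coh.HH C.subscheme P 0)
  · obtain ⟨c, hc⟩ := exists_ne (0 : Coh.HH C.subscheme P 0)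
    have hφ : (ShStabLib.BC.secEquiv k P).symm c ≠ 0 := fun h => hc ((LinearEquiv.map_eq_zero_iff _).1 h)
    have hsur := VBLib.GenusZero.surjective_mapL_one k (PicLoc.isInvertible_structureModule C.subscheme) hP _ hφ hd
    exact hsur.subsingleton
  · haveI := not_nontrivial_iff_subsingleton.1 hn
    rw [Module.finrank_zero_of_subsingleton (R := k) (M := Coh.HH C.subscheme P 0)] at hsum
    refine (Module.finrank_eq_zero_iff_of_free k _).1 ?_
    omega

variable [IsIntegral X] (hdim : topologicalKrullDim X = ((2 : ℕ) : WithBot ℕ∞))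
  (hreg : ∀ x : X, IsRegularLocalRing (X.presheaf.stalk x))

include hdim hreg in
/-- A nonzero effective divisor has constants. -/
theorem one_le_h0 {Z : X.IdealSheafData} (hZ : FGA.IsEffCartier Z) (hZ0 : Z ≠ ⊤) :
    1 ≤ Module.finrank k (Coh.HH X (ClSub.quotMod Z) 0) := by
  obtain ⟨A, hA⟩ := exists_ample k hreg hdim
  haveI := EulerChar.isNoetherian k (X := X)
  have hI := IdealSh.IdealMod.isInvertible_of_isEffCartierIdeal Z hZ
  have hI0 : Subsingleton (Coh.HH X (ClSub.idealMod Z) 0) := not_nontrivial_iff_subsingleton.1 fun hn => by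
    obtain ⟨c, hc⟩ := @exists_ne _ hn 0
    have h := pr_nonneg_of_section k hdim.le hI hA ((ShStabLib.BC.secEquiv k _).symm c)
      fun h => hc ((LinearEquiv.map_eq_zero_iff _).1 h)
    rw [pr_comm] at h
    exact (pr_ample_ideal_neg k hdim hreg hA hZ hZ0).not_ge h
  have hge := Sub.finrank_le_of_shortExact k (EulerChar.shortExact_ideal Z)
    (EulerChar.isCoh_quotMod k Z) hI0
  have h1 := VBLib.finrank_H0_structure_eq_one (k := k) (X := X) VBLib.bijective_toGlobal_of_isAlgClosed
  exact h1.symm.trans_le hge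

include hdim hreg in
/-- Vanishing for every subdivisor gives `χ ≥ 1`. -/
theorem one_le_euler {Z : X.IdealSheafData} (hZ : FGA.IsEffCartier Z) (hZ0 : Z ≠ ⊤)
    (h : Subsingleton (Coh.HH X (ClSub.quotMod Z) 1)) : 1 ≤ Curv2.euler k X (ClSub.quotMod Z) := by
  haveI := EulerChar.isNoetherian k (X := X)
  have h0 := one_le_h0 k hdim hreg hZ hZ0
  rw [SurfRR.euler_eq_three k hdim.le, Module.finrank_zero_of_subsingleton (M := Coh.HH X (ClSub.quotMod Z) 1)]
  omega

include hdim hreg in
/-- Nonpositive genus of all subdivisors gives vanishing of `H¹`. -/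
theorem subsingleton_h1 : ∀ {Z : X.IdealSheafData}, FGA.IsEffCartier Z → Z ≠ ⊤ →
    (∀ Z' J : X.IdealSheafData, FGA.IsEffCartier Z' → FGA.IsEffCartier J → Z' ≠ ⊤ → Z = Z' * J →
      1 ≤ Curv2.euler k X (ClSub.quotMod Z')) →
    Subsingleton (Coh.HH X (ClSub.quotMod Z) 1) := by
  obtain ⟨A, hA⟩ := exists_ample k hreg hdim
  haveI := EulerChar.isNoetherian k (X := X)
  haveI : SmoothOfRelativeDimension 2 (X ↘ Spec (CommRingCat.of k)) :=
    SurfRR.smoothRelDim_of_regular k (r := 2) hdim hreg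
  haveI : (Omega.sheaf (X ↘ Spec (CommRingCat.of k))).IsQuasicoherent :=
    (VBLib.isCoh_of_ofRank (CanonTriv.isFinLocFreeOfRank_omega (X ↘ Spec (CommRingCat.of k)) 2)).1
  obtain ⟨W, hW⟩ := ExtPowSt.Exists.exists_isExtPow (X := X) 2 (Omega.sheaf (X ↘ Spec (CommRingCat.of k)))
  have hWi := RR.isInvertible_canonical k hdim hreg hA hW
  suffices key : ∀ (n : ℕ) (Z : X.IdealSheafData), FGA.IsEffCartier Z → Z ≠ ⊤ →
      (∀ Z' J : X.IdealSheafData, FGA.IsEffCartier Z' → FGA.IsEffCartier J → Z' ≠ ⊤ → Z = Z' * J →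
        1 ≤ Curv2.euler k X (ClSub.quotMod Z')) →
      -pr k A (ClSub.idealMod Z) ≤ n → Subsingleton (Coh.HH X (ClSub.quotMod Z) 1) from
    fun {Z} h1 h2 h3 => key _ Z h1 h2 h3 (Int.self_le_toNat _)
  intro n
  induction n using Nat.strong_induction_on with
  | _ n ih =>
    intro Z hZ hZ0 hsub hn
    have hZi := IdealSh.IdealMod.isInvertible_of_isEffCartierIdeal Z hZ
    obtain ⟨s, m, hs, hp⟩ := Sub.pr_ideal_pieces k hdim hreg hZ
    have hχZ : 1 ≤ Curv2.euler k X (ClSub.quotMod Z) :=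
      hsub Z ⊤ hZ IdealSh.EffCartier.top hZ0 (Scheme.IdealSheafData.mul_top Z).symm
    have hadj := RR.adjunction k hdim hreg hA hW Z hZi
    -- the curves of `Z` are rational
    have hcur : ∀ ξ ∈ s, Curv2.euler k X (ClSub.quotMod (IntMult.ptIdeal ξ)) = 1 := fun ξ hξ => by
      obtain ⟨hξZ, hint, hd1, -⟩ := hs ξ hξ
      haveI := hint
      obtain ⟨J, hJ, hJZ⟩ := Sub.exists_split k hdim hreg hZ hξZ hd1
      refine le_antisymm (RR.curve_euler k _ hd1).1 (hsub _ J
        (Sub.isEffCartier_curve k hdim hreg _ hd1) hJ (fun h => ?_) (by rw [← hJZ, mul_comm]))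
      have h3 : ξ ∈ ((IntMult.ptIdeal ξ).support : Set X) := by
        rw [CohDev.coe_support_ptIdeal]; exact subset_closure rfl
      rw [h, Scheme.IdealSheafData.support_top] at h3
      exact h3
    obtain ⟨ξ, hξ, hξle⟩ : ∃ ξ ∈ s, pr k (ClSub.idealMod Z) (ClSub.idealMod (IntMult.ptIdeal ξ)) -
        pr k (ClSub.idealMod (IntMult.ptIdeal ξ)) (ClSub.idealMod (IntMult.ptIdeal ξ)) ≤ 1 := by
      by_contra hcon
      push Not at hcon
      have hterm : ∀ ξ ∈ s, 0 ≤ (m ξ : ℤ) * (pr k (ClSub.idealMod Z) (ClSub.idealMod (IntMult.ptIdeal ξ)) -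
          pr k W (ClSub.idealMod (IntMult.ptIdeal ξ))) := fun ξ hξ => by
        refine mul_nonneg (Int.natCast_nonneg _) ?_
        have h2 := RR.adjunction k hdim hreg hA hW _ (hs ξ hξ).2.2.2
        rw [hcur ξ hξ, pr_comm k (ClSub.idealMod (IntMult.ptIdeal ξ)) W] at h2
        have := hcon ξ hξ
        omega
      have h0 := Finset.sum_nonneg hterm
      rw [Finset.sum_congr rfl fun ξ _ => mul_sub (m ξ : ℤ) _ _, Finset.sum_sub_distrib,
        ← hp _ hZi, ← hp _ hWi, pr_comm k W (ClSub.idealMod Z)] at h0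
      omega
    obtain ⟨hξZ, hint, hd1, hCi⟩ := hs ξ hξ
    haveI := hint
    obtain ⟨Z', hZ', hZZ⟩ := Sub.exists_split k hdim hreg hZ hξZ hd1
    have hC := Sub.isEffCartier_curve k hdim hreg (IntMult.ptIdeal ξ) hd1
    by_cases hZ'0 : Z' = ⊤
    · rw [← hZZ, hZ'0, Scheme.IdealSheafData.top_mul]
      haveI := (RR.curve_euler k _ hd1).2 (hcur ξ hξ)
      letI : (IntMult.ptIdeal ξ).subscheme.Over (Spec (CommRingCat.of k)) :=
        ⟨(IntMult.ptIdeal ξ).subschemeι ≫ (X ↘ Spec (CommRingCat.of k))⟩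
      obtain ⟨E⟩ := EulerChar.nonempty_pushEquiv (A := k) (IntMult.ptIdeal ξ).subschemeι rfl
        (Coh.structureModule (IntMult.ptIdeal ξ).subscheme) (inferInstance : (Coh.structureModule (IntMult.ptIdeal ξ).subscheme).IsQuasicoherent) 1
      exact E.toEquiv.subsingleton
    have hZ'i := IdealSh.IdealMod.isInvertible_of_isEffCartierIdeal Z' hZ'
    obtain ⟨eZ⟩ := VertInter.nonempty_idealMod_mul hZ' hC
    rw [hZZ] at eZ
    have hsplit : ∀ B : X.Modules, PicF.IsInvertible B → pr k B (ClSub.idealMod Z) =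
        pr k B (ClSub.idealMod Z') + pr k B (ClSub.idealMod (IntMult.ptIdeal ξ)) := fun B hB => by
      rw [← pr_congr k (Iso.refl B) eZ, pr_comm, pr_add_left k hdim.le hZ'i hCi hB,
        pr_comm k (ClSub.idealMod Z') B, pr_comm k _ B]
    have h3 : Subsingleton (Coh.HH X (ClSub.quotMod Z') 1) := by
      have hAC : pr k A (ClSub.idealMod (IntMult.ptIdeal ξ)) < 0 :=
        RealNakai.pr_ample_curve k hA _ hd1 hCi
      have hAZ' := pr_ample_ideal_neg k hdim hreg hA hZ' hZ'0
      have := hsplit A hA.1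
      refine ih (-pr k A (ClSub.idealMod Z')).toNat (by omega) Z' hZ' hZ'0 (fun P J hP hJ hP0 hPJ => ?_)
        (Int.self_le_toNat _)
      exact hsub P (J * IntMult.ptIdeal ξ) hP (IdealSh.EffCartier.mul hJ hC) hP0
        (by rw [← hZZ, hPJ, mul_assoc])
    obtain ⟨S, hS, ⟨e₁⟩, ⟨e₂⟩, ⟨e₃⟩⟩ := Sub.exists_mulShort k hZ' hC
    rw [hZZ] at e₂
    have hdeg : -1 ≤ NumTriv.deg1 k (ClSub.quotMod (IntMult.ptIdeal ξ)) (ClSub.idealMod Z') := by
      rw [deg1_quotMod k hCi hZ'i]
      have h := hsplit (ClSub.idealMod (IntMult.ptIdeal ξ)) hCi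
      rw [pr_comm k _ (ClSub.idealMod Z), pr_comm k _ (ClSub.idealMod Z')] at h
      omega
    haveI := curve_h1 k _ hd1 (hcur ξ hξ) hZ'i hdeg
    haveI h1' : Subsingleton (Coh.HH X S.X₁ 1) := AmpCrit.subsingleton_HH_of_iso e₁.symm 1
    haveI := h3
    haveI h3' : Subsingleton (Coh.HH X S.X₃ 1) := AmpCrit.subsingleton_HH_of_iso e₃.symm 1
    haveI := subsingleton_h1_of_shortExact k hS h1' h3'
    exact AmpCrit.subsingleton_HH_of_iso e₂ 1

end Groth.Agent.HodgeIdx81.Rational
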