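import Groth.Agent.HodgeIdx81.CurveClass
import Groth.Agent.Props.AmpleGG
import Groth.Prelude.Def_NumR
import Mathlib.RingTheory.Flat.TorsionFree
import Mathlib.LinearAlgebra.TensorProduct.Pi
import Mathlib.LinearAlgebra.Matrix.Nondegenerate
import Mathlib.LinearAlgebra.Matrix.ToLinearEquiv

/-!
# The Hodge index theorem on real divisor classes
-/

universe u

open CategoryTheory CategoryTheory.Limits AlgebraicGeometry TensorProduct Topology

set_option linter.style.haveILetI false
set_option linter.unusedSectionVars false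
set_option quotPrecheck false

noncomputable section

namespace Groth.Agent.HodgeIdx81.RealIndex

attribute [local irreducible] Curv2.euler

open ProjTwist

variable (k : Type u) [Field k] {X : Scheme.{u}} [X.Over (Spec (CommRingCat.of k))] [PicGrp.Law X]

theorem clR_tensor {L M : X.Modules} (hL : PicF.IsInvertible L) (hM : PicF.IsInvertible M)
    (h : PicF.IsInvertible (CohB1.tensorMod L M)) :
    NumR.clR k X (CohB1.tensorMod L M) h = NumR.clR k X L hL + NumR.clR k X M hM := by
  have e : PicGrp.cls L hL * PicGrp.cls M hM = PicGrp.cls (CohB1.tensorMod L M) h :=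
    Subtype.ext ((PicGrp.cls_mul_cls_val hL hM).trans rfl)
  simp only [NumR.clR, NumR.cl, ← e, ofMul_mul, map_add]

theorem clR_iso {L M : X.Modules} (hL : PicF.IsInvertible L) (hM : PicF.IsInvertible M) (e : L ≅ M) :
    NumR.clR k X L hL = NumR.clR k X M hM := by
  rw [NumR.clR, NumR.cl, (PicGrp.cls_eq_cls_iff hL hM).mpr ⟨e⟩]
  rfl

theorem clR_one (h : PicF.IsInvertible (Coh.structureModule X)) :
    NumR.clR k X (Coh.structureModule X) h = 0 := by
  rw [NumR.clR, NumR.cl, (PicGrp.cls_eq_one_iff h).mpr ⟨Iso.refl _⟩, ofMul_one, map_zero, map_zero]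

theorem clR_pow {L : X.Modules} (hL : PicF.IsInvertible L) : ∀ (m : ℕ)
    (h : PicF.IsInvertible (CohB1.tensorPow L m)),
    NumR.clR k X (CohB1.tensorPow L m) h = (m : ℝ) • NumR.clR k X L hL
  | 0, h => by rw [Nat.cast_zero, zero_smul]; exact clR_one k h
  | m + 1, h => by
    rw [Nat.cast_succ, add_smul, one_smul, ← clR_pow hL m (AmpleLib.isInvertible_tensorPow hL m)]
    exact clR_tensor k (AmpleLib.isInvertible_tensorPow hL m) hL h

theorem clR_inv {L L' : X.Modules} (hL : PicF.IsInvertible L) (hL' : PicF.IsInvertible L')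
    (e : CohB1.tensorMod L L' ≅ Coh.structureModule X) :
    NumR.clR k X L' hL' = - NumR.clR k X L hL := by
  rw [eq_neg_iff_add_eq_zero, add_comm, ← clR_tensor k hL hL' (AmpleLib.isInvertible_tensorMod hL hL'),
    clR_iso k _ (PicLoc.isInvertible_structureModule X) e, clR_one]

variable (X) in
/-- Rational classes. -/
def ratCl : AddSubmonoid (NumR.N1R k X) where
  carrier := {x | ∃ (z : NumR.N1 k X) (N : ℕ), 0 < N ∧ (N : ℝ) • x = NumR.toN1R k X z}
  zero_mem' := ⟨0, 1, one_pos, by rw [smul_zero, map_zero]⟩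
  add_mem' := by
    rintro x y ⟨z, N, hN, hz⟩ ⟨w, M, hM, hw⟩
    refine ⟨M • z + N • w, N * M, Nat.mul_pos hN hM, ?_⟩
    rw [map_add, map_nsmul, map_nsmul, ← hz, ← hw, ← Nat.cast_smul_eq_nsmul ℝ M,
      ← Nat.cast_smul_eq_nsmul ℝ N, smul_smul, smul_smul, ← mul_comm (N : ℝ) (M : ℝ), ← smul_add,
      Nat.cast_mul]

theorem dense_ratCl : Dense (ratCl k X : Set (NumR.N1R k X)) := by
  intro x
  have key : ∀ (r : ℝ), r • x ∈ (ratCl k X).topologicalClosure := by
    have hx : x ∈ Submodule.span ℝ {x : NumR.N1R k X |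
        ∃ (L : X.Modules) (hL : PicF.IsInvertible L), x = NumR.clR k X L hL} := by
      rw [NumR.span_clR]
      exact Submodule.mem_top
    induction hx using Submodule.span_induction with
    | mem v hv =>
      obtain ⟨L, hL, rfl⟩ := hv
      intro r
      have hc : Continuous fun t : ℝ => t • NumR.clR k X L hL := Continuous.smul (f := fun t : ℝ => t) (g := fun _ => NumR.clR k X L hL) continuous_id continuous_const
      have hq : ∀ q : ℚ, (q : ℝ) • NumR.clR k X L hL ∈ (ratCl k X).topologicalClosure := fun q => by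
        refine subset_closure ⟨q.num • NumR.cl k X L hL, q.den, q.pos, ?_⟩
        rw [map_zsmul, ← NumR.clR_def, smul_smul, ← Int.cast_smul_eq_zsmul ℝ q.num]
        congr 1
        have h := q.mul_den_eq_num
        have h' : ((q * q.den : ℚ) : ℝ) = ((q.num : ℚ) : ℝ) := by rw [h]
        push_cast at h'
        linarith
      exact (IsClosed.preimage hc (ratCl k X).isClosed_topologicalClosure).closure_subset_iff.2
        (by rintro _ ⟨q, rfl⟩; exact hq q) (Rat.denseRange_cast r)
    | zero => intro r; rw [smul_zero]; exact zero_mem _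
    | add a b _ _ ha hb => intro r; rw [smul_add]; exact add_mem (ha r) (hb r)
    | smul t a _ ha => intro r; rw [smul_smul]; exact ha _
  have h := key 1
  rw [one_smul] at h
  exact h

theorem exists_clR (z : NumR.N1 k X) :
    ∃ (L : X.Modules) (hL : PicF.IsInvertible L), NumR.toN1R k X z = NumR.clR k X L hL := by
  obtain ⟨L, hL, rfl⟩ := NumR.exists_eq_cl z
  exact ⟨L, hL, rfl⟩

theorem exists_basis [Module.Finite ℝ (NumR.N1R k X)] :
    ∃ (n : ℕ) (b : Module.Basis (Fin n) ℝ (NumR.N1R k X)) (M : Fin n → X.Modules)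
      (hM : ∀ i, PicF.IsInvertible (M i)), ∀ i, b i = NumR.clR k X (M i) (hM i) := by
  let b₀ := Module.Basis.ofSpan (NumR.span_clR (k := k) (X := X)).ge
  haveI : Finite _ := Module.Finite.finite_basis b₀
  obtain ⟨n, ⟨e⟩⟩ := Finite.exists_equiv_fin
    ((linearIndepOn_empty ℝ id).extend (Set.empty_subset {x : NumR.N1R k X |
      ∃ (L : X.Modules) (hL : PicF.IsInvertible L), x = NumR.clR k X L hL}))
  have h : ∀ i, ∃ (L : X.Modules) (hL : PicF.IsInvertible L), (b₀.reindex e) i = NumR.clR k X L hL :=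
    fun i => by
      rw [Module.Basis.reindex_apply]
      exact Module.Basis.ofSpan_subset (NumR.span_clR (k := k) (X := X)).ge ⟨e.symm i, rfl⟩
  choose M hM hb using h
  exact ⟨n, b₀.reindex e, M, hM, hb⟩

section Surface

variable [IsProper (X ↘ Spec (CommRingCat.of k))]
  {B : NumR.N1R k X →ₗ[ℝ] NumR.N1R k X →ₗ[ℝ] ℝ}
  (hdim : topologicalKrullDim X = ((2 : ℕ) : WithBot ℕ∞)) (hB : NumR.IsIntForm₂ k X B)

include hdim hB

theorem B_eq {L M : X.Modules} (hL : PicF.IsInvertible L) (hM : PicF.IsInvertible M) :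
    B (NumR.clR k X L hL) (NumR.clR k X M hM) = (pr k L M : ℝ) := by
  rw [hB L M hL hM, intNum_eq_pr k hdim hL hM]

theorem B_symm (x y : NumR.N1R k X) : B x y = B y x := by
  have h : NumR.IsIntForm₂ k X B.flip := fun L M hL hM => by
    rw [LinearMap.flip_apply, B_eq k hdim hB hM hL, intNum_eq_pr k hdim hL hM, pr_comm]
  exact LinearMap.congr_fun (LinearMap.congr_fun (NumR.isIntForm₂_unique hB h) x) y

theorem B_add_sq (x y : NumR.N1R k X) (t : ℝ) :
    B (x + t • y) (x + t • y) = B x x + 2 * t * B x y + t * t * B y y := by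
  simp only [map_add, map_smul, LinearMap.add_apply, LinearMap.smul_apply, smul_eq_mul]
  rw [B_symm k hdim hB y x]
  ring

variable [Module.Finite ℝ (NumR.N1R k X)]

theorem continuous_sq : Continuous fun x : NumR.N1R k X => B x x :=
  (IsModuleTopology.continuous_bilinear_of_finite_left B).comp (continuous_id.prodMk continuous_id)

theorem continuous_left (y : NumR.N1R k X) : Continuous fun x : NumR.N1R k X => B x y :=
  IsModuleTopology.continuous_of_linearMap (B.flip y)

variable [IsIntegral X] {H : X.Modules} (hH : CohB1.IsAmple H)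
include hH

local notation "hCl" => NumR.clR k X H hH.1

theorem hh_pos : 0 < B hCl hCl := by
  rw [B_eq k hdim hB hH.1 hH.1]
  exact_mod_cast pr_self_pos k hdim hH

/-- `(x·x)(h·h) ≤ (x·h)²` on real classes. -/
theorem mul_le_sq (x : NumR.N1R k X) : B x x * B hCl hCl ≤ B x hCl ^ 2 := by
  refine (dense_ratCl k).induction (P := fun x => B x x * B hCl hCl ≤ B x hCl ^ 2) (fun x hx => ?_)
    (isClosed_le ((continuous_sq k hdim hB).mul continuous_const)
      ((continuous_left k hdim hB _).pow 2)) x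
  obtain ⟨z, N, hN, hz⟩ := hx
  obtain ⟨L, hL, hzL⟩ := exists_clR k z
  rw [hzL] at hz
  have h : (pr k L L : ℝ) * (pr k H H : ℝ) ≤ (pr k L H : ℝ) ^ 2 := by
    exact_mod_cast pr_mul_le_sq k hdim hH hL
  rw [← B_eq k hdim hB hL hL, ← B_eq k hdim hB hL hH.1, ← B_eq k hdim hB hH.1 hH.1, ← hz] at h
  simp only [map_smul, LinearMap.smul_apply, smul_eq_mul] at h
  have hN2 : (0 : ℝ) < (N : ℝ) * N := by positivity
  nlinarith

theorem self_nonpos_of_orth {x : NumR.N1R k X} (hx : B x hCl = 0) : B x x ≤ 0 := by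
  have h := mul_le_sq k hdim hB hH x
  rw [hx] at h
  nlinarith [hh_pos k hdim hB hH]

omit hH in
/-- The form is nondegenerate. -/
theorem eq_zero_of_forall (hreg : ∀ x : X, IsRegularLocalRing (X.presheaf.stalk x))
    {x : NumR.N1R k X} (hx : ∀ y, B x y = 0) : x = 0 := by
  obtain ⟨n, b, M, hM, hb⟩ := exists_basis k (X := X)
  choose R hR hRz using exists_clR k (X := X)
  let φ : NumR.N1 k X →+ (Fin n → ℤ) :=
    { toFun := fun z i => pr k (R z) (M i)
      map_zero' := funext fun i => (Int.cast_injective (α := ℝ)) (by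
        rw [← B_eq k hdim hB (hR 0) (hM i), ← hRz]
        simp)
      map_add' := fun z w => funext fun i => (Int.cast_injective (α := ℝ)) (by
        simp only [Pi.add_apply, Int.cast_add, ← B_eq k hdim hB (hR _) (hM i), ← hRz, map_add,
          LinearMap.add_apply]) }
  have hval : ∀ z i, (φ z i : ℝ) = B (NumR.toN1R k X z) (b i) := fun z i => by
    rw [hb, hRz z, B_eq k hdim hB (hR z) (hM i)]
    rfl
  have hinj : Function.Injective φ := (injective_iff_map_eq_zero φ).2 fun z hz => by
    obtain ⟨L, hL, rfl⟩ := NumR.exists_eq_cl z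
    have h0 : B (NumR.clR k X L hL) = 0 := b.ext fun i => by
      show B (NumR.toN1R k X (NumR.cl k X L hL)) (b i) = 0
      rw [← hval, hz, Pi.zero_apply, Int.cast_zero]
    refine NumR.cl_eq_zero hL (isNumEquivZero_of_pr k hreg hdim hL fun A hA => ?_)
    have h1 := LinearMap.congr_fun h0 (NumR.clR k X A hA)
    rw [B_eq k hdim hB hL hA, LinearMap.zero_apply] at h1
    exact_mod_cast h1
  let T : (ℝ ⊗[ℤ] NumR.N1 k X) →+ (Fin n → ℝ) :=
    ((TensorProduct.piScalarRight ℤ ℤ ℝ (Fin n)).toLinearMap ∘ₗ φ.toIntLinearMap.lTensor ℝ).toAddMonoidHom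
  have hTinj : Function.Injective T := by
    intro a c hac
    exact Module.Flat.lTensor_preserves_injective_linearMap (M := ℝ) φ.toIntLinearMap hinj
      ((TensorProduct.piScalarRight ℤ ℤ ℝ (Fin n)).injective hac)
  have hT : ∀ (y : ℝ ⊗[ℤ] NumR.N1 k X) (i : Fin n), T y i = B y (b i) := by
    intro y i
    induction y using TensorProduct.induction_on with
    | zero =>
      rw [map_zero, Pi.zero_apply]
      exact ((LinearMap.congr_fun (map_zero B) (b i))).symm
    | tmul r z =>
      have h : (r ⊗ₜ[ℤ] z : ℝ ⊗[ℤ] NumR.N1 k X) = r • NumR.toN1R k X z := by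
        rw [NumR.toN1R_apply]
        change _ = r • ((1 : ℝ) ⊗ₜ[ℤ] z)
        rw [TensorProduct.smul_tmul', smul_eq_mul, mul_one]
      have h2 : T (r ⊗ₜ[ℤ] z) i = (φ z i) • r := by
        simp [T]
      rw [h2, h, map_smul, LinearMap.smul_apply, ← hval, zsmul_eq_mul, smul_eq_mul, mul_comm]
    | add a c ha hc =>
      rw [map_add, Pi.add_apply, ha, hc]
      exact (LinearMap.congr_fun (map_add B (a : NumR.N1R k X) c) (b i)).symm
  refine hTinj ?_
  refine (funext fun i => ?_ : T x = 0).trans (map_zero T).symm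
  rw [hT]
  exact hx _

/-- The form is definite on the orthogonal of an ample class. -/
theorem eq_zero_of_orth (hreg : ∀ x : X, IsRegularLocalRing (X.presheaf.stalk x))
    {x : NumR.N1R k X} (hx : B x hCl = 0) (hxx : 0 ≤ B x x) : x = 0 := by
  have hxx0 : B x x = 0 := le_antisymm (self_nonpos_of_orth k hdim hB hH hx) hxx
  refine eq_zero_of_forall k hdim hB hreg fun y => ?_
  have hh := hh_pos k hdim hB hH
  -- perturb in the direction of `y`
  have key : ∀ t : ℝ, 2 * t * B x y * B hCl hCl + t * t * (B y y * B hCl hCl - B y hCl ^ 2) ≤ 0 := by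
    intro t
    have h := mul_le_sq k hdim hB hH (x + t • y)
    rw [B_add_sq k hdim hB, hxx0, map_add, map_smul, LinearMap.add_apply, LinearMap.smul_apply, hx,
      smul_eq_mul] at h
    nlinarith
  by_contra hne
  generalize B x y = β at key hne
  generalize B y y * B hCl hCl - B y hCl ^ 2 = γ at key
  generalize B hCl hCl = η at key hh
  have hk := key (β * η / (|γ| + 1))
  have hg : 0 < |γ| + 1 := by positivity
  have hb2 : 0 < β * β * η * η := by
    have : 0 < (β * η) * (β * η) := mul_self_pos.2 (mul_ne_zero hne hh.ne')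
    nlinarith
  have e : 2 * (β * η / (|γ| + 1)) * β * η + (β * η / (|γ| + 1)) * (β * η / (|γ| + 1)) * γ =
      β * β * η * η / ((|γ| + 1) * (|γ| + 1)) * (2 * (|γ| + 1) + γ) := by
    field_simp
  rw [e] at hk
  have h1 : 0 < β * β * η * η / ((|γ| + 1) * (|γ| + 1)) := div_pos hb2 (mul_pos hg hg)
  nlinarith [mul_pos h1 (show 0 < 2 * (|γ| + 1) + γ by nlinarith [neg_abs_le γ, abs_nonneg γ])]

/-- Two classes in the closed positive cone, one in the open one, pair positively. -/
theorem pos_of_posCone {x y : NumR.N1R k X} (hx : x ∈ NumR.posCone k X B H hH.1) (hy : 0 ≤ B y y)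
    (hyH : 0 < B y hCl) : 0 < B x y := by
  obtain ⟨hxx, hxH⟩ := hx
  by_contra hle
  push Not at hle
  have hz : B (B y hCl • x + (-(B x hCl)) • y) hCl = 0 := by
    simp only [map_add, map_smul, LinearMap.add_apply, LinearMap.smul_apply, smul_eq_mul]
    ring
  have h := self_nonpos_of_orth k hdim hB hH hz
  simp only [map_add, map_smul, LinearMap.add_apply, LinearMap.smul_apply, smul_eq_mul] at h
  rw [B_symm k hdim hB y x] at h
  nlinarith [mul_pos (mul_pos hyH hyH) hxx, mul_nonneg (mul_self_nonneg (B x hCl)) hy,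
    mul_nonpos_of_nonneg_of_nonpos (mul_pos hyH hxH).le hle]

theorem eq_zero_of_posCone (hreg : ∀ x : X, IsRegularLocalRing (X.presheaf.stalk x))
    {x y : NumR.N1R k X} (hx : x ∈ NumR.posCone k X B H hH.1) (hy : 0 ≤ B y y) (hxy : B x y = 0) :
    y = 0 := by
  rcases lt_trichotomy (B y hCl) 0 with h | h | h
  · have h' := pos_of_posCone k hdim hB hH hx (y := -y) (by simpa using hy) (by simpa using h)
    simp [hxy] at h'
  · exact eq_zero_of_orth k hdim hB hH hreg h hy
  · exact absurd hxy (pos_of_posCone k hdim hB hH hx hy h).ne'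

theorem isOpen_posCone : IsOpen (NumR.posCone k X B H hH.1) :=
  (isOpen_lt continuous_const (continuous_sq k hdim hB)).inter
    (isOpen_lt continuous_const (continuous_left k hdim hB _))

theorem add_mem_posCone {x y : NumR.N1R k X} (hx : x ∈ NumR.posCone k X B H hH.1)
    (hy : y ∈ NumR.posCone k X B H hH.1) : x + y ∈ NumR.posCone k X B H hH.1 := by
  have h := pos_of_posCone k hdim hB hH hx hy.1.le hy.2
  obtain ⟨h1, h2⟩ := hx
  obtain ⟨h3, h4⟩ := hy
  refine ⟨?_, ?_⟩
  · simp only [map_add, LinearMap.add_apply]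
    rw [B_symm k hdim hB y x]
    linarith
  · simp only [map_add, LinearMap.add_apply]
    linarith

theorem smul_mem_posCone {c : ℝ} (hc : 0 < c) {x : NumR.N1R k X}
    (hx : x ∈ NumR.posCone k X B H hH.1) : c • x ∈ NumR.posCone k X B H hH.1 := by
  obtain ⟨h1, h2⟩ := hx
  refine ⟨?_, ?_⟩
  · simp only [map_smul, LinearMap.smul_apply, smul_eq_mul]
    positivity
  · simp only [map_smul, LinearMap.smul_apply, smul_eq_mul]
    positivity

/-- The positive cone as a convex cone. -/
def posConeC : ConvexCone ℝ (NumR.N1R k X) where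
  carrier := NumR.posCone k X B H hH.1
  smul_mem' := fun _ hc _ hx => smul_mem_posCone k hdim hB hH hc hx
  add_mem' := fun _ hx _ hy => add_mem_posCone k hdim hB hH hx hy

theorem ampleCone_subset :
    (NumR.ampleCone k X : Set (NumR.N1R k X)) ⊆ NumR.posCone k X B H hH.1 := by
  refine fun x hx => (ConvexCone.hull_min (C := posConeC k hdim hB hH) ?_ :
    NumR.ampleCone k X ≤ posConeC k hdim hB hH) hx
  rintro _ ⟨A, hA, hAa, rfl⟩
  refine ⟨?_, ?_⟩
  · rw [B_eq k hdim hB hA hA]
    exact_mod_cast pr_self_pos k hdim hAa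
  · rw [B_eq k hdim hB hA hH.1]
    have hpos := pr_self_pos k hdim hAa
    obtain ⟨m, s, hs⟩ := exists_section_of_ample hAa
    have h := pr_nonneg_of_section k hdim.le (AmpleLib.isInvertible_tensorPow hA (m + 1)) hH s hs
    rw [pr_pow_left k hdim.le hA hH.1 (m + 1)] at h
    have h1 : 0 ≤ pr k A H := nonneg_of_mul_nonneg_right h (by positivity)
    exact_mod_cast lt_of_le_of_ne h1 (Ne.symm (pr_ne_zero k hdim hH hA hpos))

/-- A nef class pairs nonnegatively with modules having sections. -/
theorem nef_section (hreg : ∀ x : X, IsRegularLocalRing (X.presheaf.stalk x))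
    {x : NumR.N1R k X} (hx : x ∈ NumR.nefCone₂ k X B) {M : X.Modules} (hM : PicF.IsInvertible M)
    (φ : Coh.structureModule X ⟶ M) (hφ : φ ≠ 0) : 0 ≤ B x (NumR.clR k X M hM) := by
  classical
  obtain ⟨s, m, hs, hm⟩ := pr_of_section k hreg hdim hM φ hφ
  let f : NumR.N1R k X →ₗ[ℝ] ℝ := ∑ ξ ∈ s.attach,
    (m ξ.1 : ℝ) • B.flip (NumR.curveCl k X (IntMult.ptIdeal ξ.1) (hs ξ.1 ξ.2).2.2)
  have hf : B.flip (NumR.clR k X M hM) = f := by
    refine LinearMap.ext_on NumR.span_clR ?_
    rintro _ ⟨A, hA, rfl⟩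
    rw [LinearMap.flip_apply, B_eq k hdim hB hA hM, hm A hA]
    simp only [f, LinearMap.sum_apply, LinearMap.smul_apply, LinearMap.flip_apply, NumR.curveCl,
      map_neg, LinearMap.neg_apply, smul_eq_mul]
    rw [← Finset.sum_attach s]
    push_cast
    rw [← Finset.sum_neg_distrib]
    exact Finset.sum_congr rfl fun ξ _ => by
      rw [B_eq k hdim hB hA (hs ξ.1 ξ.2).2.2]
      ring
  have e := LinearMap.congr_fun hf x
  rw [LinearMap.flip_apply] at e
  rw [e]
  simp only [f, LinearMap.sum_apply, LinearMap.smul_apply, LinearMap.flip_apply, smul_eq_mul]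
  exact Finset.sum_nonneg fun ξ _ =>
    mul_nonneg (Nat.cast_nonneg _) (hx _ (hs ξ.1 ξ.2).1 (hs ξ.1 ξ.2).2.1 _)

/-- A nef class pairs nonnegatively with the positive cone. -/
theorem nef_posCone (hreg : ∀ x : X, IsRegularLocalRing (X.presheaf.stalk x))
    {x : NumR.N1R k X} (hx : x ∈ NumR.nefCone₂ k X B) {y : NumR.N1R k X}
    (hy : y ∈ NumR.posCone k X B H hH.1) : 0 ≤ B x y := by
  have hcl := (dense_ratCl k (X := X)).open_subset_closure_inter (isOpen_posCone k hdim hB hH) hy
  refine (closure_minimal (t := {y | 0 ≤ B x y}) ?_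
    (isClosed_le continuous_const (IsModuleTopology.continuous_of_linearMap (B x)))) hcl
  rintro y ⟨hyp, z, N, hN, hz⟩
  obtain ⟨L, hL, hzL⟩ := exists_clR k z
  rw [hzL] at hz
  obtain ⟨hLL, hLH⟩ := hz ▸ smul_mem_posCone k hdim hB hH (Nat.cast_pos.2 hN) hyp
  rw [B_eq k hdim hB hL hL] at hLL
  rw [B_eq k hdim hB hL hH.1] at hLH
  have hLL' : 0 < pr k L L := by exact_mod_cast hLL
  have hLH' : 0 < pr k L H := by exact_mod_cast hLH
  obtain ⟨n₀, hn₀, hn⟩ := exists_nontrivial k hdim hH hL hLH'.le hLL'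
  obtain ⟨c, hc⟩ := @exists_ne _ (hn n₀ le_rfl) (0 : Coh.HH X (CohB1.tensorPow L n₀) 0)
  have h := nef_section k hdim hB hH hreg hx (AmpleLib.isInvertible_tensorPow hL n₀)
    ((ShStabLib.BC.secEquiv k (CohB1.tensorPow L n₀)).symm c)
    fun h => hc ((LinearEquiv.map_eq_zero_iff _).1 h)
  rw [clR_pow k hL n₀, ← hz, map_smul, map_smul, smul_eq_mul, smul_eq_mul] at h
  exact nonneg_of_mul_nonneg_right (nonneg_of_mul_nonneg_right h (Nat.cast_pos.2 hn₀))
    (Nat.cast_pos.2 hN)

theorem nef_self_nonneg (hreg : ∀ x : X, IsRegularLocalRing (X.presheaf.stalk x))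
    {x : NumR.N1R k X} (hx : x ∈ NumR.nefCone₂ k X B) : 0 ≤ B x x := by
  by_contra hneg
  push Not at hneg
  have hh := hh_pos k hdim hB hH
  have hxh : 0 ≤ B x hCl := nef_posCone k hdim hB hH hreg hx ⟨hh, hh⟩
  obtain ⟨t, ht, ht1, ht2⟩ : ∃ t : ℝ, 0 < t ∧ 0 < B x x + 2 * t * B x hCl + t * t * B hCl hCl ∧
      B x x + t * B x hCl < 0 := by
    rcases eq_or_lt_of_le hxh with h | h
    · refine ⟨-B x x / B hCl hCl + 1, by have := div_pos (neg_pos.2 hneg) hh; linarith, ?_, ?_⟩
      · rw [← h]
        have e : -B x x / B hCl hCl * B hCl hCl = -B x x := div_mul_cancel₀ _ hh.ne'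
        have hd := div_pos (neg_pos.2 hneg) hh
        nlinarith [mul_pos (mul_pos hd hd) hh]
      · rw [← h]; linarith
    · refine ⟨3 / 4 * (-B x x / B x hCl), by have := div_pos (neg_pos.2 hneg) h; positivity, ?_, ?_⟩
      · have e : 3 / 4 * (-B x x / B x hCl) * B x hCl = -(3 / 4) * B x x := by field_simp
        nlinarith [mul_nonneg (mul_self_nonneg (3 / 4 * (-B x x / B x hCl))) hh.le]
      · have e : 3 / 4 * (-B x x / B x hCl) * B x hCl = -(3 / 4) * B x x := by field_simp
        linarith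
  have hy : x + t • hCl ∈ NumR.posCone k X B H hH.1 := by
    refine ⟨by rw [B_add_sq k hdim hB]; exact ht1, ?_⟩
    simp only [map_add, map_smul, LinearMap.add_apply, LinearMap.smul_apply, smul_eq_mul]
    nlinarith [mul_pos ht hh]
  have h := nef_posCone k hdim hB hH hreg hx hy
  rw [map_add, map_smul, smul_eq_mul] at h
  linarith

omit hH in
/-- The ample cone is open. -/
theorem isOpen_ampleCone : IsOpen (NumR.ampleCone k X : Set (NumR.N1R k X)) := by
  haveI := EulerChar.isNoetherian k (X := X)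
  obtain ⟨n, b, M, hM, hb⟩ := exists_basis k (X := X)
  let C := NumR.ampleCone k X
  let I : ConvexCone ℝ (NumR.N1R k X) :=
    { carrier := {x | ∃ U, IsOpen U ∧ x ∈ U ∧ U ⊆ (C : Set (NumR.N1R k X))}
      smul_mem' := by
        rintro c hc x ⟨U, hU, hxU, hUC⟩
        refine ⟨(fun w => c⁻¹ • w) ⁻¹' U, hU.preimage (continuous_const_smul c⁻¹), ?_, fun w hw => ?_⟩
        · show c⁻¹ • c • x ∈ U
          rwa [inv_smul_smul₀ hc.ne']
        · have h := C.smul_mem hc (hUC hw)
          rwa [smul_inv_smul₀ hc.ne'] at h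
      add_mem' := by
        rintro x ⟨U, hU, hxU, hUC⟩ y ⟨V, -, hyV, hVC⟩
        refine ⟨(fun w => w + -y) ⁻¹' U, hU.preimage (continuous_id.add continuous_const), ?_,
          fun w hw => ?_⟩
        · show x + y + -y ∈ U
          rwa [add_neg_cancel_right]
        · have h := C.add_mem (hUC hw) (hVC hyV)
          rwa [neg_add_cancel_right] at h }
  suffices h : C ≤ I by
    refine isOpen_iff_forall_mem_open.2 fun x hx => ?_
    obtain ⟨U, hU, hxU, hUC⟩ := h hx
    exact ⟨U, hUC, hU, hxU⟩
  refine ConvexCone.hull_min ?_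
  rintro _ ⟨A, hA, hAa, rfl⟩
  haveI : X.IsSeparated := AmpleLib.isSeparated_of_isAmple hAa
  have tw : ∀ {L : X.Modules} (hL : PicF.IsInvertible L), ∃ n₁ : ℕ, ∀ j : ℕ, n₁ ≤ j →
      (j + 1 : ℝ) • NumR.clR k X A hA + NumR.clR k X L hL ∈ C := fun {L} hL => by
    obtain ⟨n₁, hn⟩ := Props.AmpleGG.exists_bound hAa hL
    refine ⟨n₁, fun j hj => ConvexCone.subset_hull ⟨_, ?_, Props.AmpleGG.isAmple_succ hAa hL (hn j hj), ?_⟩⟩
    · exact AmpleLib.isInvertible_tensorMod (AmpleLib.isInvertible_tensorPow hA _) hL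
    · rw [clR_tensor k (AmpleLib.isInvertible_tensorPow hA _) hL, clR_pow k hA]
      push_cast
      rfl
  choose M' hM' hinv using fun i => PicLaw.exists_inverse (hM i)
  choose p hp using fun i => tw (hM i)
  choose q hq using fun i => tw (hM' i)
  let j : ℕ := Finset.univ.sup (fun i => max (p i) (q i))
  have hsgn : ∀ (i : Fin n) (t : ℝ), t ≠ 0 →
      ((j + 1 : ℝ) * |t|) • NumR.clR k X A hA + t • b i ∈ C := by
    intro i t ht
    have hj : max (p i) (q i) ≤ j := Finset.le_sup (f := fun i => max (p i) (q i)) (Finset.mem_univ i)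
    rcases lt_or_gt_of_ne ht with h | h
    · have h1 := C.smul_mem (neg_pos.2 h) (hq i j ((le_max_right _ _).trans hj))
      rw [clR_inv k (hM i) (hM' i) (hinv i).some, ← hb] at h1
      have e : (-t) • ((j + 1 : ℝ) • NumR.clR k X A hA + -b i) =
          ((j + 1 : ℝ) * |t|) • NumR.clR k X A hA + t • b i := by
        rw [abs_of_neg h]
        module
      rwa [e] at h1
    · have h1 := C.smul_mem h (hp i j ((le_max_left _ _).trans hj))
      rw [← hb, smul_add, smul_smul] at h1
      rwa [abs_of_pos h, mul_comm]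
  refine ⟨{w | (j + 1 : ℝ) * ∑ i, |b.repr (w - NumR.clR k X A hA) i| < 1}, ?_, ?_, ?_⟩
  · refine isOpen_lt (continuous_const.mul (continuous_finsetSum _ fun i _ => ?_)) continuous_const
    refine continuous_abs.comp ?_
    have hc : Continuous fun w : NumR.N1R k X => b.coord i w :=
      IsModuleTopology.continuous_of_linearMap (b.coord i)
    simp only [map_sub, Finsupp.sub_apply]
    exact hc.sub continuous_const
  · simp
  · intro w hw
    simp only [Set.mem_setOf_eq, Finset.mul_sum] at hw
    have hsum := b.sum_repr (w - NumR.clR k X A hA)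
    generalize hc : (fun i => b.repr (w - NumR.clR k X A hA) i) = c at hsum hw
    have key : ∀ s : Finset (Fin n), ∀ r : ℝ, ∑ i ∈ s, (j + 1 : ℝ) * |c i| < r →
        r • NumR.clR k X A hA + ∑ i ∈ s, c i • b i ∈ C := by
      classical
      intro s
      induction s using Finset.induction_on with
      | empty =>
        intro r hr
        rw [Finset.sum_empty] at hr ⊢
        rw [add_zero]
        exact C.smul_mem hr (ConvexCone.subset_hull ⟨A, hA, hAa, rfl⟩)
      | insert i s his ih =>
        intro r hr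
        rw [Finset.sum_insert his] at hr ⊢
        by_cases hci : c i = 0
        · rw [hci, zero_smul, zero_add]
          refine ih r ?_
          rw [hci, abs_zero, mul_zero, zero_add] at hr
          exact hr
        · have h1 := C.add_mem (hsgn i (c i) hci) (ih (r - (j + 1 : ℝ) * |c i|) (by linarith))
          rwa [add_add_add_comm, ← add_smul, add_sub_cancel] at h1
    subst hc
    have h1 := key Finset.univ 1 hw
    rw [one_smul, hsum, add_sub_cancel] at h1
    exact h1

end Surface

end Groth.Agent.HodgeIdx81.RealIndex
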