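import Groth.Agent.HodgeIdx81.RealIndex
import Groth.Agent.IntProd70.Nakai
import Groth.Agent.BigVol.SemiAmple
import Groth.Agent.FDesc.Stalk
import Groth.Agent.QCoh.Pullback
import Mathlib.Analysis.Convex.Topology

/-!
# Real classes and the criterion of Nakai and Moishezon on a surface
-/

universe u

open CategoryTheory CategoryTheory.Limits AlgebraicGeometry Topology

set_option linter.style.haveILetI false
set_option linter.unusedSectionVars false
set_option quotPrecheck false

noncomputable section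

namespace Groth.Agent.HodgeIdx81.RealNakai

attribute [local irreducible] Curv2.euler

open ProjTwist RealIndex

open scoped TensorProduct in
theorem subsingleton_stalk_pullback {X X' : Scheme.{u}} (p : X' ⟶ X) (F : X.Modules) (x : X')
    (h : p x ∉ CohB1.support F) :
    Subsingleton (((Scheme.Modules.pullback p).obj F).presheaf.stalk x) := by
  letI := (p.stalkMap x).hom.toAlgebra
  haveI : Subsingleton (F.presheaf.stalk (p x)) := not_not.1 h
  obtain ⟨e, -⟩ := FDesc.Stalk.exists_stalk_equiv p F x
  haveI : Subsingleton (X'.presheaf.stalk x ⊗[X.presheaf.stalk (p x)] F.presheaf.stalk (p x)) :=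
    subsingleton_of_forall_eq 0 fun z => by
      induction z using TensorProduct.induction_on with
      | zero => rfl
      | tmul a b => rw [Subsingleton.elim b 0, TensorProduct.tmul_zero]
      | add a b ha hb => rw [ha, hb, add_zero]
  exact e.symm.toEquiv.subsingleton

section Curves

variable (k : Type u) [Field k] {X : Scheme.{u}} [X.Over (Spec (CommRingCat.of k))]
  [IsProper (X ↘ Spec (CommRingCat.of k))] [IsIntegral X]

omit [IsIntegral X] in
/-- An integral subscheme is the reduced closure of its generic point. -/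
theorem eq_ptIdeal (C : X.IdealSheafData) [IsIntegral C.subscheme] :
    C = IntMult.ptIdeal (C.subschemeι (genericPoint ↥C.subscheme)) ∧
      closure ({C.subschemeι (genericPoint ↥C.subscheme)} : Set X) = (C.support : Set X) := by
  have hcl : closure ({C.subschemeι (genericPoint ↥C.subscheme)} : Set X) = (C.support : Set X) := by
    rw [← Set.image_singleton, C.subschemeι.isClosedEmbedding.closure_image_eq,
      (genericPoint_spec ↥C.subscheme).def, Set.image_univ, C.range_subschemeι]
  refine ⟨?_, hcl⟩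
  conv_lhs => rw [← C.ker_subschemeι]
  exact RedSub.ker_eq_vanishingIdeal C.subschemeι
    ⟨closure {C.subschemeι (genericPoint ↥C.subscheme)}, isClosed_closure⟩
    (C.range_subschemeι.trans hcl.symm)

omit [IsIntegral X] in
theorem pr_ample_curve {A : X.Modules} (hA : CohB1.IsAmple A) (C : X.IdealSheafData)
    [IsIntegral C.subscheme] (hC : topologicalKrullDim ↥(C.support : Set X) = ((1 : ℕ) : WithBot ℕ∞))
    (hI : PicF.IsInvertible (ClSub.idealMod C)) : pr k A (ClSub.idealMod C) < 0 := by
  have h : 0 < NumTriv.deg1 k (ClSub.quotMod C) A :=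
    (BigVol.SemiAmple.curve_facts k C (by rw [hC]; rfl) hA.1).1
      (Wt.AmpleThick.isAmple_pullback C.subschemeι hA)
  rw [deg1_quotMod k hI hA.1] at h
  omega

omit [IsIntegral X] in
/-- A map of invertible modules which is nonzero on a curve raises the degree there. -/
theorem pr_le_of_hom {A A' : X.Modules} (hA : PicF.IsInvertible A) (hA' : PicF.IsInvertible A')
    (f : A ⟶ A') (C : X.IdealSheafData) [IsIntegral C.subscheme]
    (hC : topologicalKrullDim ↥(C.support : Set X) = ((1 : ℕ) : WithBot ℕ∞))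
    (hI : PicF.IsInvertible (ClSub.idealMod C))
    (hf : C.subschemeι (genericPoint ↥C.subscheme) ∉ CohB1.support (cokernel f)) :
    pr k A' (ClSub.idealMod C) ≤ pr k A (ClSub.idealMod C) := by
  letI : C.subscheme.Over (Spec (CommRingCat.of k)) := ⟨C.subschemeι ≫ (X ↘ Spec (CommRingCat.of k))⟩
  haveI : IsProper (C.subscheme ↘ Spec (CommRingCat.of k)) :=
    inferInstanceAs (IsProper (C.subschemeι ≫ (X ↘ Spec (CommRingCat.of k))))
  have hd : topologicalKrullDim C.subscheme = 1 := by
    rw [IsHomeomorph.topologicalKrullDim_eq _ (C.subschemeι.isEmbedding.toHomeomorph.trans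
      (Homeomorph.setCongr C.range_subschemeι)).isHomeomorph]
    exact hC.trans rfl
  let g := Scheme.Modules.pullback C.subschemeι
  have hPA : PicF.IsInvertible (g.obj A) := PicCl.isInvertible_pullback _ hA
  have hPA' : PicF.IsInvertible (g.obj A') := PicCl.isInvertible_pullback _ hA'
  have hne : g.map f ≠ 0 := by
    intro h0
    haveI : PreservesColimitsOfSize.{0, 0} g :=
      (Scheme.Modules.pullbackPushforwardAdjunction C.subschemeι).leftAdjoint_preservesColimits
    haveI : g.Additive := (Scheme.Modules.pullbackPushforwardAdjunction C.subschemeι).left_adjoint_additive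
    have hc := isColimitCoforkMapOfIsColimit' g (cokernel.condition f) (cokernelIsCokernel f)
    let d := hc.desc (CokernelCofork.ofπ (𝟙 (g.obj A')) (by rw [h0, zero_comp]))
    have hd' : g.map (cokernel.π f) ≫ d = 𝟙 (g.obj A') :=
      hc.fac (CokernelCofork.ofπ (𝟙 (g.obj A')) (by rw [h0, zero_comp])) WalkingParallelPair.one
    let ξ := genericPoint ↥C.subscheme
    haveI := subsingleton_stalk_pullback C.subschemeι (cokernel f) ξ hf
    obtain ⟨e⟩ := EulerChar.stalk_ofRank (isFinLocFreeOfRank_one hPA') ξ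
    haveI : Nontrivial ((g.obj A').presheaf.stalk ξ) := e.injective.nontrivial
    let Fs := Scheme.Modules.toPresheaf C.subscheme ⋙ TopCat.Presheaf.stalkFunctor AddCommGrpCat.{u} ξ
    obtain ⟨a, b, hab⟩ := exists_pair_ne ((g.obj A').presheaf.stalk ξ)
    refine hab ?_
    have h1 : ∀ z : (g.obj A').presheaf.stalk ξ, Fs.map d (Fs.map (g.map (cokernel.π f)) z) = z := fun z => by
      rw [← ConcreteCategory.comp_apply, ← Fs.map_comp, hd', Fs.map_id]
      rfl
    rw [← h1 a, ← h1 b]
    exact congrArg _ (Subsingleton.elim (α := (g.obj (cokernel f)).presheaf.stalk ξ) _ _)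
  have h := (EulerChar.euler_le_of_ne_zero hPA hPA' (g.map f) hne k hd).1
  have e1 := deg1_quotMod k hI hA
  have e2 := deg1_quotMod k hI hA'
  have e3 := BigVol.CurveTest.euler_sub_eq_deg k C hA
  have e4 := BigVol.CurveTest.euler_sub_eq_deg k C hA'
  simp only [NumTriv.deg1, Curv2.deg, Nat.cast_one, one_mul] at e1 e2 e3 e4
  linarith

/-- A section which does not vanish on a curve has nonnegative degree there. -/
theorem pr_le_zero_of_section {M : X.Modules} (hM : PicF.IsInvertible M)
    (φ : Coh.structureModule X ⟶ M) (C : X.IdealSheafData) [IsIntegral C.subscheme]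
    (hC : topologicalKrullDim ↥(C.support : Set X) = ((1 : ℕ) : WithBot ℕ∞))
    (hI : PicF.IsInvertible (ClSub.idealMod C))
    (hφ : C.subschemeι (genericPoint ↥C.subscheme) ∉ CohB1.support (cokernel φ)) :
    pr k M (ClSub.idealMod C) ≤ 0 := by
  have h := pr_le_of_hom k (PicLoc.isInvertible_structureModule X) hM φ C hC hI hφ
  rwa [pr_one_left] at h

/-- Two different curves meet nonnegatively. -/
theorem pr_curves_nonneg {C D : X.IdealSheafData} [IsIntegral C.subscheme] [IsIntegral D.subscheme]
    (hC : topologicalKrullDim ↥(C.support : Set X) = ((1 : ℕ) : WithBot ℕ∞))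
    (hD : topologicalKrullDim ↥(D.support : Set X) = ((1 : ℕ) : WithBot ℕ∞))
    (hIC : PicF.IsInvertible (ClSub.idealMod C)) (hID : PicF.IsInvertible (ClSub.idealMod D))
    (hne : C ≠ D) : 0 ≤ pr k (ClSub.idealMod D) (ClSub.idealMod C) := by
  have hsub : C.subschemeι (genericPoint ↥C.subscheme) ∉ (D.support : Set X) := fun hmem => hne <| by
    obtain ⟨eC, hclC⟩ := eq_ptIdeal C
    obtain ⟨eD, hclD⟩ := eq_ptIdeal D
    have hle : (C.support : Set X) ⊆ (D.support : Set X) :=
      hclC ▸ closure_minimal (Set.singleton_subset_iff.2 hmem) D.support.isClosed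
    have heq : (C.support : Set X) = (D.support : Set X) := by
      by_contra hns
      have hirr : IsIrreducible (D.support : Set X) := hclD ▸ isIrreducible_singleton.closure
      have h := CohDev.dim_lt_of_irreducible C.support.isClosed hirr hle
        (fun h => hns (hle.antisymm h)) hD.le
      rw [hC] at h
      exact lt_irrefl _ h
    rw [eC, eD]
    unfold IntMult.ptIdeal
    congr 1
    exact TopologicalSpace.Closeds.ext (hclC.trans (heq.trans hclD.symm))
  have hO := PicLoc.isInvertible_structureModule X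
  have h := pr_le_of_hom k hID hO (ClSub.idealModι D) C hC hIC fun hmem => hsub
    (EulerChar.support_quotMod_subset D (CohDev.support_subset_of_epi
      ((cokernelIsCokernel (ClSub.idealModι D)).coconePointUniqueUpToIso
        (EulerChar.shortExact_ideal D).gIsCokernel).inv hmem))
  rwa [pr_one_left] at h

/-- Nakai and Moishezon on a surface. -/
theorem isAmple_of_pr (hreg : ∀ x : X, IsRegularLocalRing (X.presheaf.stalk x))
    (hdim : topologicalKrullDim X = ((2 : ℕ) : WithBot ℕ∞)) {L : X.Modules} (hL : PicF.IsInvertible L)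
    (hpos : 0 < pr k L L)
    (hc : ∀ C : X.IdealSheafData, IsIntegral C.subscheme →
      topologicalKrullDim ↥(C.support : Set X) = ((1 : ℕ) : WithBot ℕ∞) →
      ∀ _ : PicF.IsInvertible (ClSub.idealMod C), pr k L (ClSub.idealMod C) < 0) :
    CohB1.IsAmple L := by
  haveI := EulerChar.isNoetherian k (X := X)
  refine IntProd70.isAmple_of_forall_intC_pos k hL fun x d hd hx => ?_
  have hxd : topologicalKrullDim ↥(closure ({x} : Set X)) = (d : WithBot ℕ∞) := by
    rw [FibBound.topDim_closure_singleton k x, hx]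
  have hxC : topologicalKrullDim ↥((IntMult.ptIdeal x).support : Set X) = (d : WithBot ℕ∞) := by
    rw [CohDev.coe_support_ptIdeal, hxd]
  have hd2 : d ≤ 2 := by
    have h := ((CohDev.dim_mono (Set.subset_univ (closure ({x} : Set X)))).trans
      (IsHomeomorph.topologicalKrullDim_eq _ (Homeomorph.Set.univ X).isHomeomorph).le).trans hdim.le
    rw [hxd] at h
    exact_mod_cast h
  interval_cases d
  · haveI : IsIntegral (IntMult.ptIdeal x).subscheme :=
      S16188.isIntegral_subscheme _ isIrreducible_singleton.closure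
    have hI := isInvertible_of_curve k hreg hdim _ hxC
    have h := hc _ inferInstance hxC hI
    rw [IntProd70.intC, show (fun _ : Fin 1 => L) = Fin.cons L (fun i : Fin 0 => L) from
      funext fun i => by fin_cases i; rfl,
      Snapper.intE_cons k (fun i => i.elim0) hL (EulerChar.isCoh_quotMod k _), map_sub,
      Snapper.intK_kcl k (fun i => i.elim0) (Snapper.isCoh_tensorMod k hL (EulerChar.isCoh_quotMod k _)),
      Snapper.intK_kcl k (fun i => i.elim0) (EulerChar.isCoh_quotMod k _), Snapper.intE_zero,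
      Snapper.intE_zero]
    have h1 := deg1_quotMod k hI hL
    rw [NumTriv.deg1, EulerChar.euler_iso k (tensComm _ L)] at h1
    linarith
  · have hO := ProperFin.isCoh_structureModule X
    have hfin := IntProd70.finite_top (X := X) isClosed_univ
      ((IsHomeomorph.topologicalKrullDim_eq _ (Homeomorph.Set.univ X).isHomeomorph).trans hdim).le
    have hs : ∀ ξ, ξ ∈ hfin.toFinset ↔ ξ ∈ (Set.univ : Set X) ∧
        topologicalKrullDim ↥(closure ({ξ} : Set X)) = ((2 : ℕ) : WithBot ℕ∞) := fun ξ => hfin.mem_toFinset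
    have hsing : hfin.toFinset = {x} := by
      ext ξ
      rw [hs, Finset.mem_singleton]
      refine ⟨fun h => ?_, fun h => ⟨trivial, h ▸ hxd⟩⟩
      have huniv : ∀ z : X, topologicalKrullDim ↥(closure ({z} : Set X)) = ((2 : ℕ) : WithBot ℕ∞) →
          z = genericPoint X := fun z hz => by
        by_contra hne
        have hlt := CohDev.dim_lt_of_irreducible isClosed_closure (IrreducibleSpace.isIrreducible_univ X)
          (Set.subset_univ _) (fun hu => hne ((show IsGenericPoint z (Set.univ : Set X) from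
            Set.eq_univ_of_univ_subset hu).eq (genericPoint_spec X)))
          ((IsHomeomorph.topologicalKrullDim_eq _ (Homeomorph.Set.univ X).isHomeomorph).trans hdim).le
        rw [hz] at hlt
        exact lt_irrefl _ hlt
      rw [huniv ξ h.2, huniv x hxd]
    have h := IntProd70.intE_components k (L := fun _ : Fin 2 => L) (fun _ => hL) isClosed_univ
      ((IsHomeomorph.topologicalKrullDim_eq _ (Homeomorph.Set.univ X).isHomeomorph).trans hdim).le
      _ hs hO (Set.subset_univ _)
    rw [hsing, Finset.sum_singleton, show (fun _ : Fin 2 => L) = Fin.cons L (fun _ : Fin 1 => L) from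
      funext fun i => by fin_cases i <;> rfl, pr_eq_intE k hL hL] at h
    rw [IntProd70.intC, neg_one_sq, one_mul, show (fun _ : Fin 2 => L) = Fin.cons L (fun _ : Fin 1 => L) from
      funext fun i => by fin_cases i <;> rfl]
    by_contra hle
    push Not at hle
    have h' : pr k L L ≤ 0 := h.le.trans (mul_nonpos_of_nonneg_of_nonpos (Int.natCast_nonneg _) hle)
    omega

end Curves

section Cones

variable (k : Type u) [Field k] {X : Scheme.{u}} [X.Over (Spec (CommRingCat.of k))] [PicGrp.Law X]
  [IsProper (X ↘ Spec (CommRingCat.of k))] [IsIntegral X] [Module.Finite ℝ (NumR.N1R k X)]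
  {B : NumR.N1R k X →ₗ[ℝ] NumR.N1R k X →ₗ[ℝ] ℝ}
  (hdim : topologicalKrullDim X = ((2 : ℕ) : WithBot ℕ∞)) (hB : NumR.IsIntForm₂ k X B)
  (hreg : ∀ x : X, IsRegularLocalRing (X.presheaf.stalk x))
  {H : X.Modules} (hH : CohB1.IsAmple H)

include hdim hB hreg hH

local notation "hCl" => NumR.clR k X H hH.1

omit hreg hH in
theorem B_curve {L : X.Modules} (hL : PicF.IsInvertible L) (C : X.IdealSheafData)
    (hI : PicF.IsInvertible (ClSub.idealMod C)) :
    B (NumR.clR k X L hL) (NumR.curveCl k X C hI) = -(pr k L (ClSub.idealMod C) : ℝ) := by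
  rw [NumR.curveCl, map_neg, B_eq k hdim hB hL hI]

omit hreg hH in
theorem curve_pos_of_mem {y : NumR.N1R k X} (hy : y ∈ NumR.ampleCone k X) (C : X.IdealSheafData)
    [IsIntegral C.subscheme] (hC : topologicalKrullDim ↥(C.support : Set X) = ((1 : ℕ) : WithBot ℕ∞))
    (hI : PicF.IsInvertible (ClSub.idealMod C)) : 0 < B y (NumR.curveCl k X C hI) := by
  let S : ConvexCone ℝ (NumR.N1R k X) :=
    { carrier := {y | 0 < B y (NumR.curveCl k X C hI)}
      smul_mem' := fun c hc x (hx : 0 < B x _) => by
        show 0 < B (c • x) _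
        rw [map_smul, LinearMap.smul_apply, smul_eq_mul]
        exact mul_pos hc hx
      add_mem' := fun x (hx : 0 < B x _) y (hy : 0 < B y _) => by
        show 0 < B (x + y) _
        rw [map_add, LinearMap.add_apply]
        exact add_pos hx hy }
  refine (ConvexCone.hull_min (C := S) ?_ : NumR.ampleCone k X ≤ S) hy
  rintro _ ⟨A, hA, hAa, rfl⟩
  show 0 < B _ _
  rw [B_curve k hdim hB hA C hI, neg_pos]
  exact_mod_cast pr_ample_curve k hAa C hC hI

/-- A class near which rational classes are positive lies in the ample cone. -/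
theorem mem_ampleCone_of_open {O : Set (NumR.N1R k X)} (hO : IsOpen O)
    (h : ∀ w ∈ O, w ∈ ratCl k X → 0 < B w w ∧ ∀ C : X.IdealSheafData, IsIntegral C.subscheme →
      topologicalKrullDim ↥(C.support : Set X) = ((1 : ℕ) : WithBot ℕ∞) →
      ∀ hI : PicF.IsInvertible (ClSub.idealMod C), 0 < B w (NumR.curveCl k X C hI)) :
    O ⊆ (NumR.ampleCone k X : Set (NumR.N1R k X)) := by
  haveI : ContinuousNeg (NumR.N1R k X) := ⟨by simpa using continuous_const_smul (-1 : ℝ) (T := NumR.N1R k X)⟩
  haveI : IsTopologicalAddGroup (NumR.N1R k X) := { }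
  have hK := isOpen_ampleCone k hdim hB
  have hne : (interior (NumR.ampleCone k X : Set (NumR.N1R k X))).Nonempty := by
    rw [hK.interior_eq]
    exact ⟨hCl, ConvexCone.subset_hull ⟨H, hH.1, hH, rfl⟩⟩
  have hsub : O ⊆ closure (NumR.ampleCone k X : Set (NumR.N1R k X)) := by
    refine ((dense_ratCl k (X := X)).open_subset_closure_inter hO).trans (closure_mono ?_)
    rintro w ⟨hw, hwr⟩
    obtain ⟨h1, h2⟩ := h w hw hwr
    obtain ⟨z, N, hN, hz⟩ := hwr
    obtain ⟨L, hL, hzL⟩ := exists_clR k z
    rw [hzL] at hz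
    have hN' : (0 : ℝ) < N := Nat.cast_pos.2 hN
    have hLL : (0 : ℝ) < (pr k L L : ℝ) := by
      rw [← B_eq k hdim hB hL hL, ← hz]
      simp only [map_smul, LinearMap.smul_apply, smul_eq_mul]
      positivity
    have hLa : CohB1.IsAmple L := isAmple_of_pr k hreg hdim hL (by exact_mod_cast hLL) fun C hC hd hI => by
      have h3 := mul_pos hN' (h2 C hC hd hI)
      rw [← smul_eq_mul, ← LinearMap.smul_apply, ← map_smul, hz, B_curve k hdim hB hL C hI, neg_pos] at h3
      exact_mod_cast h3
    have h4 := (NumR.ampleCone k X).smul_mem (inv_pos.2 hN') (ConvexCone.subset_hull ⟨L, hL, hLa, rfl⟩)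
    rwa [← hz, inv_smul_smul₀ hN'.ne'] at h4
  have h5 := interior_maximal hsub hO
  rwa [(NumR.ampleCone k X).convex.interior_closure_eq_interior_of_nonempty_interior hne,
    hK.interior_eq] at h5

theorem nef_add_ample {x y : NumR.N1R k X} (hx : x ∈ NumR.nefCone₂ k X B)
    (hy : y ∈ NumR.ampleCone k X) : x + y ∈ NumR.ampleCone k X := by
  have hO : IsOpen {w : NumR.N1R k X | w + -x ∈ NumR.ampleCone k X} :=
    (isOpen_ampleCone k hdim hB).preimage (continuous_id.add continuous_const)
  refine mem_ampleCone_of_open k hdim hB hreg hH hO (fun w hw _ => ?_) (by simpa using hy)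
  obtain ⟨v, hv, rfl⟩ : ∃ v ∈ NumR.ampleCone k X, w = x + v := ⟨w + -x, hw, by abel⟩
  have hvp := ampleCone_subset k hdim hB hH hv
  refine ⟨?_, fun C hC hd hI => ?_⟩
  · simp only [map_add, LinearMap.add_apply]
    rw [B_symm k hdim hB v x]
    linarith [nef_self_nonneg k hdim hB hH hreg hx, nef_posCone k hdim hB hH hreg hx hvp, hvp.1]
  · rw [map_add, LinearMap.add_apply]
    exact add_pos_of_nonneg_of_pos (hx C hC (hd.trans rfl) hI)
      (haveI := hC; curve_pos_of_mem k hdim hB hv C hd hI)

theorem ample_mem_nef {y : NumR.N1R k X} (hy : y ∈ NumR.ampleCone k X) : y ∈ NumR.nefCone₂ k X B :=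
  fun C hC hd hI => (haveI := hC; curve_pos_of_mem k hdim hB hy C (hd.trans rfl) hI).le

theorem closure_ampleCone :
    closure (NumR.ampleCone k X : Set (NumR.N1R k X)) = {x | 0 ≤ B x x ∧ x ∈ NumR.nefCone₂ k X B} := by
  refine Set.Subset.antisymm ?_ fun x hx => ?_
  · refine closure_minimal (fun y hy => ⟨(ampleCone_subset k hdim hB hH hy).1.le,
      ample_mem_nef k hdim hB hreg hH hy⟩) ?_
    refine (isClosed_le continuous_const (continuous_sq k hdim hB)).inter ?_
    simp only [NumR.nefCone₂]
    rw [Set.setOf_forall]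
    refine isClosed_iInter fun C => ?_
    rw [Set.setOf_forall]
    refine isClosed_iInter fun _ => ?_
    rw [Set.setOf_forall]
    refine isClosed_iInter fun _ => ?_
    rw [Set.setOf_forall]
    exact isClosed_iInter fun hI => isClosed_le continuous_const (continuous_left k hdim hB _)
  · refine mem_closure_of_tendsto (f := fun n : ℕ => x + (1 / ((n : ℝ) + 1)) • hCl)
      (b := Filter.atTop) ?_ (Filter.Eventually.of_forall fun n => ?_)
    · have hc : Continuous fun t : ℝ => x + t • hCl := continuous_const.add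
        (Continuous.smul (f := fun t : ℝ => t) (g := fun _ => hCl) continuous_id continuous_const)
      simpa [Function.comp_def] using (hc.tendsto 0).comp tendsto_one_div_add_atTop_nhds_zero_nat
    · exact nef_add_ample k hdim hB hreg hH hx.2 ((NumR.ampleCone k X).smul_mem (by positivity)
        (ConvexCone.subset_hull ⟨H, hH.1, hH, rfl⟩))

theorem mem_posCone_of_nef {x : NumR.N1R k X} (hx : x ∈ NumR.nefCone₂ k X B) (hxx : 0 < B x x) :
    x ∈ NumR.posCone k X B H hH.1 := by
  refine ⟨hxx, lt_of_le_of_ne (nef_posCone k hdim hB hH hreg hx ?_) fun h => ?_⟩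
  · exact ⟨hh_pos k hdim hB hH, hh_pos k hdim hB hH⟩
  · exact (self_nonpos_of_orth k hdim hB hH h.symm).not_gt hxx

/-- The description of the ample cone. -/
theorem mem_ampleCone_iff (x : NumR.N1R k X) : x ∈ NumR.ampleCone k X ↔
    0 < B x x ∧ ∀ C : X.IdealSheafData, IsIntegral C.subscheme →
      topologicalKrullDim ↥(C.support : Set X) = ((1 : ℕ) : WithBot ℕ∞) →
      ∀ hI : PicF.IsInvertible (ClSub.idealMod C), 0 < B x (NumR.curveCl k X C hI) := by
  classical
  haveI := EulerChar.isNoetherian k (X := X)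
  refine ⟨fun hx => ⟨(ampleCone_subset k hdim hB hH hx).1,
    fun C hC hd hI => haveI := hC; curve_pos_of_mem k hdim hB hx C hd hI⟩, fun ⟨hxx, hxc⟩ => ?_⟩
  have hxn : x ∈ NumR.nefCone₂ k X B := fun C hC hd hI => (hxc C hC (hd.trans rfl) hI).le
  have hxp := mem_posCone_of_nef k hdim hB hreg hH hxn hxx
  have hP := isOpen_posCone k hdim hB hH
  -- a rational big class below `x`
  obtain ⟨ε, hε, hεp⟩ : ∃ ε : ℝ, 0 < ε ∧ x + (-ε) • hCl ∈ NumR.posCone k X B H hH.1 := by
    have hc : Continuous fun t : ℝ => x + (-t) • hCl := continuous_const.add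
      (Continuous.smul (f := fun t : ℝ => -t) (g := fun _ => hCl) continuous_neg continuous_const)
    have h0 : (0 : ℝ) ∈ (fun t : ℝ => x + (-t) • hCl) ⁻¹' NumR.posCone k X B H hH.1 := by simpa using hxp
    obtain ⟨δ, hδ, hball⟩ := Metric.isOpen_iff.1 (hP.preimage hc) 0 h0
    refine ⟨δ / 2, by linarith, hball ?_⟩
    rw [Metric.mem_ball, dist_zero_right, Real.norm_eq_abs, abs_of_pos (by linarith)]
    linarith
  have hO₁ : IsOpen (NumR.posCone k X B H hH.1 ∩ {w | x + (-1 : ℝ) • w ∈ NumR.ampleCone k X}) :=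
    hP.inter ((isOpen_ampleCone k hdim hB).preimage
      (continuous_const.add (continuous_const_smul (-1 : ℝ))))
  have hmem : x + (-ε) • hCl ∈
      NumR.posCone k X B H hH.1 ∩ {w | x + (-1 : ℝ) • w ∈ NumR.ampleCone k X} := by
    refine ⟨hεp, ?_⟩
    show x + (-1 : ℝ) • (x + (-ε) • hCl) ∈ NumR.ampleCone k X
    rw [show x + (-1 : ℝ) • (x + (-ε) • hCl) = ε • hCl by module]
    exact (NumR.ampleCone k X).smul_mem hε (ConvexCone.subset_hull ⟨H, hH.1, hH, rfl⟩)
  obtain ⟨y, ⟨hyp, hxy⟩, hyr⟩ := (dense_ratCl k (X := X)).inter_open_nonempty _ hO₁ ⟨_, hmem⟩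
  obtain ⟨z, N, hN, hz⟩ := hyr
  obtain ⟨L, hL, hzL⟩ := exists_clR k z
  rw [hzL] at hz
  obtain ⟨hLL, hLH⟩ := hz ▸ smul_mem_posCone k hdim hB hH (Nat.cast_pos.2 hN) hyp
  rw [B_eq k hdim hB hL hL] at hLL
  rw [B_eq k hdim hB hL hH.1] at hLH
  obtain ⟨n, hn, hsec⟩ := exists_nontrivial k hdim hH hL (le_of_lt (by exact_mod_cast hLH))
    (by exact_mod_cast hLL)
  obtain ⟨c, hc⟩ := @exists_ne _ (hsec n le_rfl) (0 : Coh.HH X (CohB1.tensorPow L n) 0)
  let M := CohB1.tensorPow L n
  have hM : PicF.IsInvertible M := AmpleLib.isInvertible_tensorPow hL n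
  let φ := (ShStabLib.BC.secEquiv k M).symm c
  have hφ : φ ≠ 0 := fun h => hc ((LinearEquiv.map_eq_zero_iff _).1 h)
  have hO := PicLoc.isInvertible_structureModule X
  haveI := EulerChar.mono_of_ne_zero hO hM φ hφ
  have hQ : Coh.IsCoh (cokernel φ) := CohDev.isCoh_cokernel φ
    (ProperFin.isCoh_structureModule X).1 (VBLib.isCoh_of_ofRank (isFinLocFreeOfRank_one hM))
  have hQd : topologicalKrullDim ↥(CohB1.support (cokernel φ)) ≤ ((1 : ℕ) : WithBot ℕ∞) :=
    dim_le_of_not_mem (CohDev.isClosed_support hQ)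
      (CohDev.not_mem_support_cokernel φ (EulerChar.bijective_stalk_generic hO hM φ hφ).2)
      (d := 1) hdim.le
  have hfin := IntProd70.finite_top (CohDev.isClosed_support hQ) hQd
  have hE : ∀ ξ ∈ hfin.toFinset, IsIntegral (IntMult.ptIdeal ξ).subscheme ∧
      topologicalKrullDim ↥((IntMult.ptIdeal ξ).support : Set X) = ((1 : ℕ) : WithBot ℕ∞) ∧
      PicF.IsInvertible (ClSub.idealMod (IntMult.ptIdeal ξ)) := fun ξ hξ => by
    have h1 : IsIntegral (IntMult.ptIdeal ξ).subscheme :=
      S16188.isIntegral_subscheme _ isIrreducible_singleton.closure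
    have h2 : topologicalKrullDim ↥((IntMult.ptIdeal ξ).support : Set X) = ((1 : ℕ) : WithBot ℕ∞) := by
      rw [CohDev.coe_support_ptIdeal]
      exact (hfin.mem_toFinset.1 hξ).2
    haveI := h1
    exact ⟨h1, h2, isInvertible_of_curve k hreg hdim _ h2⟩
  let O : Set (NumR.N1R k X) := {w | 0 < B w w} ∩ ({w | w + (-1 : ℝ) • y ∈ NumR.ampleCone k X} ∩
    ⋂ ξ : hfin.toFinset, {w | 0 < B w (NumR.curveCl k X (IntMult.ptIdeal ξ.1) (hE ξ.1 ξ.2).2.2)})
  have hOo : IsOpen O := (isOpen_lt continuous_const (continuous_sq k hdim hB)).inter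
    (((isOpen_ampleCone k hdim hB).preimage (continuous_id.add continuous_const)).inter
      (isOpen_iInter_of_finite fun ξ => isOpen_lt continuous_const (continuous_left k hdim hB _)))
  refine mem_ampleCone_of_open k hdim hB hreg hH hOo ?_
    ⟨hxx, hxy, Set.mem_iInter.2 fun ξ => hxc _ (hE ξ.1 ξ.2).1 (hE ξ.1 ξ.2).2.1 _⟩
  rintro w ⟨hw1, hw2, hw3⟩ -
  refine ⟨hw1, fun C hC hd hI => ?_⟩
  haveI := hC
  obtain ⟨eC, hcl⟩ := eq_ptIdeal C
  by_cases hξ : C.subschemeι (genericPoint ↥C.subscheme) ∈ CohB1.support (cokernel φ)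
  · have hmem' : C.subschemeι (genericPoint ↥C.subscheme) ∈ hfin.toFinset :=
      hfin.mem_toFinset.2 ⟨hξ, by rw [hcl, hd]⟩
    have h := Set.mem_iInter.1 hw3 ⟨_, hmem'⟩
    simp only [Set.mem_setOf_eq, ← eC] at h
    exact h
  · have h1 := pr_le_zero_of_section k hM φ C hd hI hξ
    rw [pr_pow_left k hdim.le hL hI n] at h1
    have h2 : 0 ≤ B (NumR.clR k X L hL) (NumR.curveCl k X C hI) := by
      rw [B_curve k hdim hB hL C hI, neg_nonneg]
      exact_mod_cast nonpos_of_mul_nonpos_right h1 (by exact_mod_cast hn)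
    rw [← hz, map_smul, LinearMap.smul_apply, smul_eq_mul] at h2
    have h3 : 0 ≤ B y (NumR.curveCl k X C hI) := nonneg_of_mul_nonneg_right h2 (Nat.cast_pos.2 hN)
    have h4 := curve_pos_of_mem k hdim hB hw2 C hd hI
    simp only [map_add, map_smul, LinearMap.add_apply, LinearMap.smul_apply, smul_eq_mul] at h4
    linarith

end Cones

end Groth.Agent.HodgeIdx81.RealNakai
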