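import Groth.Agent.HodgeIdx81.Proper
import Groth.Agent.ModPairLib.Divide
import Groth.Agent.CurveCoh.Euler

/-!
# Computation sequences of numerically connected divisors
-/

set_option autoImplicit false
set_option linter.style.haveILetI false

universe u

open CategoryTheory CategoryTheory.Limits AlgebraicGeometry
open Groth.Agent.ProjTwist

noncomputable section

namespace Groth.Agent.HodgeIdx81.Sub

attribute [local irreducible] Curv2.euler

variable (k : Type u) [Field k] {X : Scheme.{u}} [X.Over (Spec (CommRingCat.of k))]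
  [IsProper (X ↘ Spec (CommRingCat.of k))]

include k in
/-- The short exact sequence of `O/IJ`. -/
theorem exists_mulShort {I J : X.IdealSheafData} (hI : BlowUp.IsEffCartierIdeal I)
    (hJ : BlowUp.IsEffCartierIdeal J) : ∃ S : ShortComplex X.Modules, S.ShortExact ∧
      Nonempty (S.X₁ ≅ CohB1.tensorMod (ClSub.idealMod I) (ClSub.quotMod J)) ∧
      Nonempty (S.X₂ ≅ ClSub.quotMod (I * J)) ∧ Nonempty (S.X₃ ≅ ClSub.quotMod I) := by
  haveI := EulerChar.isNoetherian k (X := X)
  have hi := IdealSh.IdealMod.isInvertible_of_isEffCartierIdeal I hI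
  haveI : (ClSub.idealMod I).IsQuasicoherent := ProjTwist.isQCoh_of_isInvertible hi
  let a := CartFilt.α J (ClSub.idealMod I)
  let b := ClSub.idealModι I
  haveI : Mono a := CartFilt.mono_α hJ _ hi
  haveI : Mono b := inferInstanceAs (Mono (kernel.ι _))
  haveI : Mono (a ≫ b) := mono_comp _ _
  let S := ShortComplex.mk (cokernel.map a (a ≫ b) (𝟙 _) b (Category.id_comp _).symm)
    (cokernel.map (a ≫ b) b a (𝟙 _) (Category.comp_id _))
    (Cofork.IsColimit.hom_ext (cokernelIsCokernel a) (by simp))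
  refine ⟨S, ?_, ⟨CartFilt.cokerαIso J (ClSub.idealMod I)⟩,
    CartFilt.nonempty_cokernel_iso (I * J) (a ≫ b) (VertInter.rangeEq_mul hI hJ),
    ⟨(cokernelIsCokernel _).coconePointUniqueUpToIso (EulerChar.shortExact_ideal I).gIsCokernel⟩⟩
  have h := kernelCokernelCompSequence_exact a b
  refine { exact := ?_, mono_f := ?_, epi_g := ?_ }
  · exact h.exact 3
  · exact (h.exact 2).mono_g (IsZero.eq_of_src (isZero_kernel_of_mono b) _ _)
  · exact inferInstanceAs (Epi ((kernelCokernelCompSequence a b).map' 4 5))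

/-- `h⁰` of a short exact sequence with no sections on the left. -/
theorem finrank_le_of_shortExact {S : ShortComplex X.Modules} (hS : S.ShortExact) (h₃ : Coh.IsCoh S.X₃)
    (h : Subsingleton (Coh.HH X S.X₁ 0)) :
    Module.finrank k (Coh.HH X S.X₂ 0) ≤ Module.finrank k (Coh.HH X S.X₃ 0) := by
  haveI := EulerChar.isNoetherian k (X := X)
  haveI := EulerChar.finite_HH k S.X₃ h₃ 0
  refine LinearMap.finrank_le_finrank_of_injective (f := CurveCoh.mapL k S.g 0)
    (LinearMap.ker_eq_bot.1 ?_)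
  rw [(CurveCoh.exact_mapL k hS 0).linearMap_ker_eq, eq_bot_iff]
  rintro _ ⟨y, rfl⟩
  rw [Subsingleton.elim y 0, map_zero]
  exact Submodule.zero_mem _

variable [IsIntegral X] (hdim : topologicalKrullDim X = ((2 : ℕ) : WithBot ℕ∞))
  (hreg : ∀ x : X, IsRegularLocalRing (X.presheaf.stalk x))

include hdim hreg in
/-- An effective divisor as a combination of the curves in its support. -/
theorem pr_ideal_pieces {I : X.IdealSheafData} (hI : FGA.IsEffCartier I) :
    ∃ (s : Finset X) (m : X → ℕ),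
      (∀ ξ ∈ s, ξ ∈ (I.support : Set X) ∧ IsIntegral (IntMult.ptIdeal ξ).subscheme ∧
        topologicalKrullDim ↥((IntMult.ptIdeal ξ).support : Set X) = ((1 : ℕ) : WithBot ℕ∞) ∧
        PicF.IsInvertible (ClSub.idealMod (IntMult.ptIdeal ξ))) ∧
      ∀ B : X.Modules, PicF.IsInvertible B → pr k B (ClSub.idealMod I) =
        ∑ ξ ∈ s, (m ξ : ℤ) * pr k B (ClSub.idealMod (IntMult.ptIdeal ξ)) := by
  haveI := EulerChar.isNoetherian k (X := X)
  have hIi := IdealSh.IdealMod.isInvertible_of_isEffCartierIdeal I hI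
  obtain ⟨M, hM, e, t, ht, hloc, -⟩ := exists_section_of_ideal k hI
  let M₁ := CohB1.tensorPow M 1
  have hM₁ : PicF.IsInvertible M₁ := AmpleLib.isInvertible_tensorPow hM 1
  have hO := PicLoc.isInvertible_structureModule X
  have hOc := VBLib.isCoh_of_ofRank (isFinLocFreeOfRank_one hO)
  have hMc := VBLib.isCoh_of_ofRank (isFinLocFreeOfRank_one hM₁)
  haveI := EulerChar.mono_of_ne_zero hO hM₁ t ht
  have hQ : Coh.IsCoh (cokernel t) := CohDev.isCoh_cokernel t hOc.1 hMc
  have hQd : topologicalKrullDim ↥(CohB1.support (cokernel t)) ≤ ((1 : ℕ) : WithBot ℕ∞) := by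
    refine Snapper.le_of_lt_succ ?_
    refine CohDev.dim_lt_of_irreducible (CohDev.isClosed_support hQ)
      (IrreducibleSpace.isIrreducible_univ X) (Set.subset_univ _) (fun h =>
        CohDev.not_mem_support_cokernel t (EulerChar.bijective_stalk_generic hO hM₁ t ht).2
          (h (Set.mem_univ (genericPoint X)))) ?_
    rw [IsHomeomorph.topologicalKrullDim_eq _ (Homeomorph.Set.univ X).isHomeomorph, hdim]
  have hT := CohDev.isClosed_support hQ
  have hfin := IntProd70.finite_top hT hQd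
  have hs : ∀ ξ, ξ ∈ hfin.toFinset ↔ ξ ∈ CohB1.support (cokernel t) ∧
      topologicalKrullDim ↥(closure ({ξ} : Set X)) = ((1 : ℕ) : WithBot ℕ∞) :=
    fun ξ => hfin.mem_toFinset
  have hs' : ∀ ξ ∈ hfin.toFinset, ξ ∈ (I.support : Set X) ∧ IsIntegral (IntMult.ptIdeal ξ).subscheme ∧
      topologicalKrullDim ↥((IntMult.ptIdeal ξ).support : Set X) = ((1 : ℕ) : WithBot ℕ∞) ∧
      PicF.IsInvertible (ClSub.idealMod (IntMult.ptIdeal ξ)) := fun ξ hξ => by
    have hint : IsIntegral (IntMult.ptIdeal ξ).subscheme :=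
      S16188.isIntegral_subscheme _ isIrreducible_singleton.closure
    haveI := hint
    have hd1 : topologicalKrullDim ↥((IntMult.ptIdeal ξ).support : Set X) = ((1 : ℕ) : WithBot ℕ∞) := by
      rw [CohDev.coe_support_ptIdeal]; exact ((hs ξ).1 hξ).2
    refine ⟨?_, hint, hd1, isInvertible_of_curve k hreg hdim _ hd1⟩
    by_contra hξI
    have hmem : ξ ∈ (CohB1.genLocus M₁ t : Set X) := hloc.symm ▸ hξI
    exact CohDev.not_mem_support_cokernel t (HilbPolyX.stalk_sec_bijective t hmem).2 ((hs ξ).1 hξ).1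
  refine ⟨hfin.toFinset, fun ξ => (IntProd70.len (cokernel t) ξ).toNat, hs', fun B hB => ?_⟩
  have h1 : ∀ {G : X.Modules}, Coh.IsCoh G → Snapper.intE k (fun _ : Fin 1 => B) G =
      - NumTriv.deg1 k G B := fun {G} hG => by
    rw [show (fun _ : Fin 1 => B) = Fin.cons B (fun i : Fin 0 => B) from
      funext fun i => by fin_cases i; rfl,
      Snapper.intE_cons k (fun i => i.elim0) hB hG, map_sub,
      Snapper.intK_kcl k (fun i => i.elim0) (Snapper.isCoh_tensorMod k hB hG),
      Snapper.intK_kcl k (fun i => i.elim0) hG, Snapper.intE_zero, Snapper.intE_zero, NumTriv.deg1,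
      EulerChar.euler_iso k (tensComm G B), neg_sub]
  have h := IntProd70.intE_components k (L := fun _ : Fin 1 => B) (fun _ => hB) hT hQd _ hs hQ subset_rfl
  rw [h1 hQ, Finset.sum_congr rfl fun ξ _ => by rw [h1 (CohDev.isCoh_oz ξ), mul_neg],
    Finset.sum_neg_distrib, neg_inj] at h
  have hS := HilbPolyX.shortExact_of_mono t
  have h2 : Curv2.euler k X M₁ = Curv2.euler k X (Coh.structureModule X) + Curv2.euler k X (cokernel t) :=
    EulerChar.euler_add' k t (cokernel.π t) (cokernel.condition t) hS hOc hMc hQ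
  have h3 : Curv2.euler k X (CohB1.tensorMod B M₁) =
      Curv2.euler k X (CohB1.tensorMod B (Coh.structureModule X)) +
        Curv2.euler k X (CohB1.tensorMod B (cokernel t)) :=
    euler_tens_add k (S := ShortComplex.mk t (cokernel.π t) (cokernel.condition t)) hB hS hOc hMc hQ
  rw [EulerChar.euler_iso k (tensOne B)] at h3
  have h4 : pr k B M₁ = NumTriv.deg1 k (cokernel t) B := by
    rw [NumTriv.deg1, pr, EulerChar.euler_iso k (tensComm (cokernel t) B)]
    linarith
  have e1 : pr k B M₁ = pr k B M := pr_congr k (Iso.refl B) (oneTens M : M₁ ≅ M)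
  rw [e1, pr_comm, pr_inv_left k hdim.le hIi hM hB e, pr_comm, h] at h4
  rw [show pr k B (ClSub.idealMod I) = -∑ ξ ∈ hfin.toFinset, _ from eq_neg_of_add_eq_zero_left
    (by rw [← h4]; ring), ← Finset.sum_neg_distrib]
  refine Finset.sum_congr rfl fun ξ hξ => ?_
  have h5 : NumTriv.deg1 k (Cyc.closureStructureSheaf ξ) B = -pr k B (ClSub.idealMod (IntMult.ptIdeal ξ)) :=
    deg1_quotMod k (hs' ξ hξ).2.2.2 hB
  rw [h5]
  ring

include k hdim hreg in
theorem isEffCartier_curve (C : X.IdealSheafData) [IsIntegral C.subscheme]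
    (hC : topologicalKrullDim ↥(C.support : Set X) = ((1 : ℕ) : WithBot ℕ∞)) :
    BlowUp.IsEffCartierIdeal C := by
  haveI := EulerChar.isNoetherian k (X := X)
  refine S1684.result X C ?_ fun x _ => ?_
  · have hcl : closure ({C.subschemeι (genericPoint ↥C.subscheme)} : Set X) = (C.support : Set X) := by
      rw [← Set.image_singleton, C.subschemeι.isClosedEmbedding.closure_image_eq,
        (genericPoint_spec ↥C.subscheme).def, Set.image_univ, C.range_subschemeι]
    have hd : VarDim.dimPt k X (C.subschemeι (genericPoint ↥C.subscheme)) = 1 := by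
      have h := FibBound.topDim_closure_singleton k (C.subschemeι (genericPoint ↥C.subscheme))
      rw [hcl, hC] at h
      exact_mod_cast h.symm
    have hη : VarDim.dimPt k X (genericPoint X) = 2 := by
      have h := (VarDim.topologicalKrullDim_eq_of_irreducible k (X := X)).symm.trans hdim
      exact_mod_cast h
    have hle : ∀ y : X, VarDim.dimPt k X y ≤ 2 := fun y => by
      have h := (VarDim.topologicalKrullDim_eq_iSup k (X := X)).symm.trans hdim
      have h1 : (VarDim.dimPt k X y : WithBot ℕ∞) ≤ ((2 : ℕ) : WithBot ℕ∞) :=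
        (le_iSup (fun z : X => (VarDim.dimPt k X z : WithBot ℕ∞)) y).trans h.le
      exact_mod_cast h1
    rw [ringKrullDim_stalk_eq_coheight]
    have h1 := VarDim.coheight_le_of_forall k (x := C.subschemeι (genericPoint ↥C.subscheme)) fun y _ => hle y
    have h2 := VarDim.le_coheight k (x := C.subschemeι (genericPoint ↥C.subscheme)) (y := genericPoint X)
      (genericPoint_specializes _)
    rw [hd] at h1 h2
    rw [hη] at h2
    rw [le_antisymm h1 h2]
    simp
  · haveI := hreg x
    exact ⟨inferInstance, RegLoc.UFD.uniqueFactorizationMonoid _⟩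

include k hdim hreg in
/-- Split off a curve of an effective divisor. -/
theorem exists_split {I : X.IdealSheafData} (hI : BlowUp.IsEffCartierIdeal I) {ξ : X}
    (hξ : ξ ∈ (I.support : Set X))
    (hC : topologicalKrullDim ↥((IntMult.ptIdeal ξ).support : Set X) = ((1 : ℕ) : WithBot ℕ∞)) :
    ∃ I' : X.IdealSheafData, BlowUp.IsEffCartierIdeal I' ∧ I' * IntMult.ptIdeal ξ = I := by
  haveI : IsIntegral (IntMult.ptIdeal ξ).subscheme :=
    S16188.isIntegral_subscheme _ isIrreducible_singleton.closure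
  have hle : I ≤ IntMult.ptIdeal ξ := Scheme.IdealSheafData.le_support_iff_le_vanishingIdeal.1
    (closure_minimal (Set.singleton_subset_iff.2 hξ) I.support.isClosed)
  have hc := isEffCartier_curve k hdim hreg (IntMult.ptIdeal ξ) hC
  have e := ModPairLib.Divide.quot_mul_eq hc hle
  exact ⟨_, IdealSh.EffCartier.factor_left (e.symm ▸ hI), e⟩

variable [IsAlgClosed k]

omit [IsIntegral X] in
/-- Sections of an invertible module on an integral curve. -/
theorem curve_h0 (C : X.IdealSheafData) [IsIntegral C.subscheme]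
    (hC : topologicalKrullDim ↥(C.support : Set X) = ((1 : ℕ) : WithBot ℕ∞))
    {M : X.Modules} (hM : PicF.IsInvertible M)
    (hdeg : NumTriv.deg1 k (ClSub.quotMod C) M ≤ 0) :
    Module.finrank k (Coh.HH X (CohB1.tensorMod M (ClSub.quotMod C)) 0) ≤ 1 ∧
      (NumTriv.deg1 k (ClSub.quotMod C) M < 0 →
        Subsingleton (Coh.HH X (CohB1.tensorMod M (ClSub.quotMod C)) 0)) := by
  letI : C.subscheme.Over (Spec (CommRingCat.of k)) := ⟨C.subschemeι ≫ (X ↘ Spec (CommRingCat.of k))⟩
  haveI : IsProper (C.subscheme ↘ Spec (CommRingCat.of k)) :=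
    inferInstanceAs (IsProper (C.subschemeι ≫ (X ↘ Spec (CommRingCat.of k))))
  have hd : topologicalKrullDim C.subscheme = 1 := by
    rw [IsHomeomorph.topologicalKrullDim_eq _ (C.subschemeι.isEmbedding.toHomeomorph.trans
      (Homeomorph.setCongr C.range_subschemeι)).isHomeomorph]
    exact hC.trans rfl
  let P := (Scheme.Modules.pullback C.subschemeι).obj M
  have hP : PicF.IsInvertible P := PicCl.isInvertible_pullback _ hM
  have hPq : Coh.IsQCoh P := ProjTwist.isQCoh_of_isInvertible hP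
  let e : CohB1.tensorMod M (ClSub.quotMod C) ≅ (Scheme.Modules.pushforward C.subschemeι).obj P :=
    EulerChar.tensQuotIso C.subschemeι M
  obtain ⟨E⟩ := EulerChar.nonempty_pushEquiv (A := k) C.subschemeι rfl P hPq 0
  have hfr : Module.finrank k (Coh.HH X (CohB1.tensorMod M (ClSub.quotMod C)) 0) =
      Module.finrank k (Coh.HH C.subscheme P 0) :=
    (ProjTwist.Pn.finrank_hh_iso (k := k) e 0).trans E.finrank_eq
  have hdeg' : Curv2.euler k C.subscheme P - Curv2.euler k C.subscheme (Coh.structureModule C.subscheme) =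
      NumTriv.deg1 k (ClSub.quotMod C) M := by
    have e3 := BigVol.CurveTest.euler_sub_eq_deg k C hM
    simp only [Curv2.deg, Nat.cast_one, one_mul] at e3
    exact e3.symm
  by_cases hn : Nontrivial (Coh.HH C.subscheme P 0)
  · obtain ⟨c, hc⟩ := exists_ne (0 : Coh.HH C.subscheme P 0)
    have hφ : (ShStabLib.BC.secEquiv k P).symm c ≠ 0 := fun h => hc ((LinearEquiv.map_eq_zero_iff _).1 h)
    obtain ⟨hle, hiso⟩ := EulerChar.euler_le_of_ne_zero (PicLoc.isInvertible_structureModule C.subscheme)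
      hP _ hφ k hd
    haveI := hiso (by omega)
    refine ⟨?_, fun hlt => absurd hle (by omega)⟩
    rw [hfr, ← ProjTwist.Pn.finrank_hh_iso (k := k) (asIso ((ShStabLib.BC.secEquiv k P).symm c)) 0,
      VBLib.finrank_H0_structure_eq_one VBLib.bijective_toGlobal_of_isAlgClosed]
  · haveI := not_nontrivial_iff_subsingleton.1 hn
    refine ⟨?_, fun _ => ?_⟩
    · rw [hfr, Module.finrank_zero_of_subsingleton]
      exact Nat.zero_le 1
    · haveI : Subsingleton (Coh.HH X ((Scheme.Modules.pushforward C.subschemeι).obj P) 0) :=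
        E.toEquiv.subsingleton
      exact AmpCrit.subsingleton_HH_of_iso e.symm 0

include hdim in
/-- One step of a computation sequence. -/
theorem step {W C : X.IdealSheafData} [IsIntegral C.subscheme] (hW : BlowUp.IsEffCartierIdeal W)
    (hC : BlowUp.IsEffCartierIdeal C)
    (hd1 : topologicalKrullDim ↥(C.support : Set X) = ((1 : ℕ) : WithBot ℕ∞))
    (hCi : PicF.IsInvertible (ClSub.idealMod C)) (hWi : PicF.IsInvertible (ClSub.idealMod W))
    {L : X.Modules} (hL : PicF.IsInvertible L) (hdeg : NumTriv.deg1 k (ClSub.quotMod C) L ≤ 0)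
    (hpos : 0 < pr k (ClSub.idealMod W) (ClSub.idealMod C)) :
    Module.finrank k (Coh.HH X (CohB1.tensorMod L (ClSub.quotMod (W * C))) 0) ≤
      Module.finrank k (Coh.HH X (CohB1.tensorMod L (ClSub.quotMod W)) 0) := by
  haveI := EulerChar.isNoetherian k (X := X)
  obtain ⟨S, hS, ⟨e₁⟩, ⟨e₂⟩, ⟨e₃⟩⟩ := exists_mulShort k hW hC
  let F := (DCoh.tensorBi (X := X)).obj L
  let S' := ShortComplex.mk (F.map S.f) (F.map S.g) (by rw [← F.map_comp, S.zero, F.map_zero])
  have hS' : S'.ShortExact := CohDev.tens_shortExact (isFinLocFreeOfRank_one hL) hS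
  have hLW : PicF.IsInvertible (CohB1.tensorMod L (ClSub.idealMod W)) :=
    AmpleLib.isInvertible_tensorMod hL hWi
  have hlt : NumTriv.deg1 k (ClSub.quotMod C) (CohB1.tensorMod L (ClSub.idealMod W)) < 0 := by
    rw [deg1_quotMod k hCi hL] at hdeg
    rw [deg1_quotMod k hCi hLW, pr_add_left k hdim.le hL hWi hCi]
    linarith
  let i₁ : CohB1.tensorMod L S.X₁ ≅ S'.X₁ := Iso.refl (F.obj S.X₁)
  let i₂ : CohB1.tensorMod L S.X₂ ≅ S'.X₂ := Iso.refl (F.obj S.X₂)
  let i₃ : CohB1.tensorMod L S.X₃ ≅ S'.X₃ := Iso.refl (F.obj S.X₃)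
  haveI := (curve_h0 k C hd1 hLW hlt.le).2 hlt
  have hsub : Subsingleton (Coh.HH X S'.X₁ 0) :=
    AmpCrit.subsingleton_HH_of_iso (tensAssoc _ _ _ ≪≫ tensCongr (Iso.refl L) e₁.symm ≪≫ i₁) 0
  have hQc : Coh.IsCoh S'.X₃ :=
    CohDev.isCoh_of_iso (tensCongr (Iso.refl L) e₃.symm ≪≫ i₃)
      (Snapper.isCoh_tensorMod k hL (EulerChar.isCoh_quotMod k W))
  rw [← ProjTwist.Pn.finrank_hh_iso (k := k) (i₂.symm ≪≫ tensCongr (Iso.refl L) e₂) 0,
    ← ProjTwist.Pn.finrank_hh_iso (k := k) (i₃.symm ≪≫ tensCongr (Iso.refl L) e₃) 0]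
  exact finrank_le_of_shortExact k hS' hQc hsub

include hdim hreg in
/-- A numerically connected divisor carries at most one section in nonpositive degree. -/
theorem finrank_le_one {Z : X.IdealSheafData} (hZ : FGA.IsEffCartier Z) (hZ0 : Z ≠ ⊤)
    (hnc : ∀ Z₁ Z₂ : X.IdealSheafData, FGA.IsEffCartier Z₁ → FGA.IsEffCartier Z₂ → Z₁ ≠ ⊤ → Z₂ ≠ ⊤ →
      Z = Z₁ * Z₂ → 0 < pr k (ClSub.idealMod Z₁) (ClSub.idealMod Z₂))
    {L : X.Modules} (hL : PicF.IsInvertible L)
    (hdeg : ∀ C : X.IdealSheafData, IsIntegral C.subscheme →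
      topologicalKrullDim ↥(C.support : Set X) = ((1 : ℕ) : WithBot ℕ∞) → Z ≤ C →
      NumTriv.deg1 k (ClSub.quotMod C) L ≤ 0) :
    Module.finrank k (Coh.HH X (CohB1.tensorMod L (ClSub.quotMod Z)) 0) ≤ 1 := by
  haveI := EulerChar.isNoetherian k (X := X)
  obtain ⟨A, hA⟩ := exists_ample k hreg hdim
  have hmul : ∀ P Q : X.IdealSheafData, P * Q ≤ Q := fun P Q U => by
    rw [Scheme.IdealSheafData.ideal_mul, Pi.mul_apply]
    exact Ideal.mul_le.2 fun a _ b hb => Ideal.mul_mem_left _ _ hb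
  have hmem : ∀ {P : X.IdealSheafData} {ξ : X}, ξ ∈ ((IntMult.ptIdeal ξ).support : Set X) := fun {P ξ} => by
    rw [CohDev.coe_support_ptIdeal]
    exact subset_closure rfl
  have key : ∀ (n : ℕ) (W J : X.IdealSheafData), BlowUp.IsEffCartierIdeal W → BlowUp.IsEffCartierIdeal J →
      W ≠ ⊤ → Z = W * J → -pr k A (ClSub.idealMod J) ≤ n →
      Module.finrank k (Coh.HH X (CohB1.tensorMod L (ClSub.quotMod Z)) 0) ≤
        Module.finrank k (Coh.HH X (CohB1.tensorMod L (ClSub.quotMod W)) 0) := by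
    intro n
    induction n using Nat.strong_induction_on with
    | _ n ih =>
      intro W J hW hJ hW0 hZWJ hn
      by_cases hJ0 : J = ⊤
      · rw [hZWJ, hJ0, Scheme.IdealSheafData.mul_top]
      have hWi := IdealSh.IdealMod.isInvertible_of_isEffCartierIdeal W hW
      have hJi := IdealSh.IdealMod.isInvertible_of_isEffCartierIdeal J hJ
      have hpos := hnc W J hW hJ hW0 hJ0 hZWJ
      obtain ⟨s, m, hs, hp⟩ := pr_ideal_pieces k hdim hreg (I := J) hJ
      rw [hp _ hWi] at hpos
      obtain ⟨ξ, hξ, hξpos⟩ : ∃ ξ ∈ s, 0 < pr k (ClSub.idealMod W) (ClSub.idealMod (IntMult.ptIdeal ξ)) := by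
        by_contra h
        push Not at h
        exact hpos.not_ge (Finset.sum_nonpos fun ξ hξ =>
          mul_nonpos_of_nonneg_of_nonpos (Int.natCast_nonneg _) (h ξ hξ))
      obtain ⟨hξJ, hint, hd1, hCi⟩ := hs ξ hξ
      haveI := hint
      obtain ⟨J', hJ', hJJ'⟩ := exists_split k hdim hreg hJ hξJ hd1
      have hC := isEffCartier_curve k hdim hreg (IntMult.ptIdeal ξ) hd1
      have hJ'i := IdealSh.IdealMod.isInvertible_of_isEffCartierIdeal J' hJ'
      obtain ⟨eJ⟩ := VertInter.nonempty_idealMod_mul hJ' hC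
      rw [hJJ'] at eJ
      have hAC : pr k A (ClSub.idealMod (IntMult.ptIdeal ξ)) < 0 :=
        RealNakai.pr_ample_curve k hA _ hd1 hCi
      have hAJ : pr k A (ClSub.idealMod J) =
          pr k A (ClSub.idealMod J') + pr k A (ClSub.idealMod (IntMult.ptIdeal ξ)) := by
        rw [← pr_congr k (Iso.refl A) eJ, pr_comm, pr_add_left k hdim.le hJ'i hCi hA.1,
          pr_comm k (ClSub.idealMod J') A, pr_comm k _ A]
      have hJ'nn : pr k A (ClSub.idealMod J') ≤ 0 := by
        by_cases h : J' = ⊤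
        · obtain ⟨s', m', hs', hp'⟩ := pr_ideal_pieces k hdim hreg (I := J') hJ'
          rw [hp' A hA.1]
          refine Finset.sum_nonpos fun η hη => ?_
          haveI := (hs' η hη).2.1
          exact mul_nonpos_of_nonneg_of_nonpos (Int.natCast_nonneg _)
            (RealNakai.pr_ample_curve k hA _ (hs' η hη).2.2.1 (hs' η hη).2.2.2).le
        · exact (pr_ample_ideal_neg k hdim hreg hA hJ' h).le
      have hW'0 : W * IntMult.ptIdeal ξ ≠ ⊤ := fun h => by
        have h2 := eq_top_iff.2 (h ▸ hmul W (IntMult.ptIdeal ξ))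
        have h3 : ξ ∈ ((IntMult.ptIdeal ξ).support : Set X) := hmem (P := W)
        rw [h2, Scheme.IdealSheafData.support_top] at h3
        exact h3
      refine (ih (-pr k A (ClSub.idealMod J')).toNat (by omega) (W * IntMult.ptIdeal ξ) J'
        (IdealSh.EffCartier.mul hW hC) hJ' hW'0 (by rw [hZWJ, ← hJJ', mul_comm J', mul_assoc])
        (Int.self_le_toNat _)).trans ?_
      exact step k hdim hW hC hd1 hCi hWi hL (hdeg _ hint hd1 (by
        rw [hZWJ, ← hJJ', ← mul_assoc]
        exact hmul _ _)) hξpos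
  obtain ⟨s, m, hs, hp⟩ := pr_ideal_pieces k hdim hreg (I := Z) hZ
  obtain ⟨ξ, hξ⟩ : s.Nonempty := by
    by_contra h
    have h1 := pr_ample_ideal_neg k hdim hreg hA hZ hZ0
    rw [hp A hA.1, Finset.not_nonempty_iff_eq_empty.1 h] at h1
    simp at h1
  obtain ⟨hξZ, hint, hd1, hCi⟩ := hs ξ hξ
  haveI := hint
  obtain ⟨J, hJ, hJZ⟩ := exists_split k hdim hreg hZ hξZ hd1
  have hC0 : IntMult.ptIdeal ξ ≠ ⊤ := fun h => by
    have h3 : ξ ∈ ((IntMult.ptIdeal ξ).support : Set X) := hmem (P := Z)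
    rw [h, Scheme.IdealSheafData.support_top] at h3
    exact h3
  refine (key (-pr k A (ClSub.idealMod J)).toNat (IntMult.ptIdeal ξ) J
    (isEffCartier_curve k hdim hreg _ hd1) hJ hC0 (by rw [← hJZ, mul_comm]) (Int.self_le_toNat _)).trans ?_
  refine (curve_h0 k _ hd1 hL (hdeg _ hint hd1 ?_)).1
  rw [← hJZ]
  exact hmul _ _

end Groth.Agent.HodgeIdx81.Sub
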