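import Groth.Agent.HodgeIdx81.Bound
import Groth.Agent.IntProd70.Positive
import Groth.Agent.DualAbs.ClosedDual
import Groth.Agent.NumTriv.Ample
import Groth.Agent.S10829
import Groth.Agent.AmpCrit.NegVan

/-!
# The Hodge index inequality on an integral projective surface
-/

universe u

open CategoryTheory CategoryTheory.Limits AlgebraicGeometry TopologicalSpace
open Groth.Agent.PullStalk.Sky Groth.Agent.PullStalk.Exact

set_option linter.style.haveILetI false

noncomputable section

namespace Groth.Agent.HodgeIdx81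

attribute [local irreducible] Curv2.euler

open ProjTwist

variable (k : Type u) [Field k] {X : Scheme.{u}} [X.Over (Spec (CommRingCat.of k))]
  [IsProper (X ↘ Spec (CommRingCat.of k))]

/-- the intersection pairing -/
def pr (A B : X.Modules) : ℤ :=
  Curv2.euler k X (Coh.structureModule X) - Curv2.euler k X A - Curv2.euler k X B +
    Curv2.euler k X (CohB1.tensorMod A B)

theorem pr_comm (A B : X.Modules) : pr k A B = pr k B A := by
  rw [pr, pr, EulerChar.euler_iso k (tensComm A B)]
  ring

theorem pr_congr {A A' B B' : X.Modules} (e : A ≅ A') (e' : B ≅ B') : pr k A B = pr k A' B' := by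
  rw [pr, pr, EulerChar.euler_iso k e, EulerChar.euler_iso k e',
    EulerChar.euler_iso k (tensCongr e e')]

theorem pr_one_left (B : X.Modules) : pr k (Coh.structureModule X) B = 0 := by
  rw [pr, EulerChar.euler_iso k (oneTens B)]
  ring

theorem pr_eq_intE {A B : X.Modules} (hA : PicF.IsInvertible A) (hB : PicF.IsInvertible B) :
    Snapper.intE k (Fin.cons A (fun _ : Fin 1 => B)) (Coh.structureModule X) = pr k A B := by
  haveI := EulerChar.isNoetherian k (X := X)
  have hO : Coh.IsCoh (Coh.structureModule X) := ProperFin.isCoh_structureModule X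
  have hAO := Snapper.isCoh_tensorMod k hA hO
  have h1 : ∀ {G : X.Modules}, Coh.IsCoh G → Snapper.intE k (fun _ : Fin 1 => B) G =
      Curv2.euler k X G - Curv2.euler k X (CohB1.tensorMod B G) := fun {G} hG => by
    rw [show (fun _ : Fin 1 => B) = Fin.cons B (fun i : Fin 0 => B) from
      funext fun i => by fin_cases i; rfl,
      Snapper.intE_cons k (fun i => i.elim0) hB hG, map_sub,
      Snapper.intK_kcl k (fun i => i.elim0) (Snapper.isCoh_tensorMod k hB hG),
      Snapper.intK_kcl k (fun i => i.elim0) hG, Snapper.intE_zero, Snapper.intE_zero]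
    ring
  rw [Snapper.intE_cons k (fun _ => hB) hA hO, map_sub, Snapper.intK_kcl k (fun _ => hB) hAO,
    Snapper.intK_kcl k (fun _ => hB) hO, h1 hAO, h1 hO, pr,
    EulerChar.euler_iso k (tensCongr (Iso.refl B) (tensOne A)), EulerChar.euler_iso k (tensOne A),
    EulerChar.euler_iso k (tensOne B), EulerChar.euler_iso k (tensComm B A)]
  ring

theorem dim_supp_le {d : ℕ} (hdim : topologicalKrullDim X ≤ (d : WithBot ℕ∞)) (G : X.Modules) :
    topologicalKrullDim ↥(CohB1.support G) ≤ (d : WithBot ℕ∞) :=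
  EulerChar.dim_support_le hdim

variable (hdim : topologicalKrullDim X ≤ ((2 : ℕ) : WithBot ℕ∞))
include hdim

theorem pr_add_left {A A' B : X.Modules} (hA : PicF.IsInvertible A) (hA' : PicF.IsInvertible A')
    (hB : PicF.IsInvertible B) :
    pr k (CohB1.tensorMod A A') B = pr k A B + pr k A' B := by
  haveI := EulerChar.isNoetherian k (X := X)
  rw [← pr_eq_intE k (AmpleLib.isInvertible_tensorMod hA hA') hB, ← pr_eq_intE k hA hB,
    ← pr_eq_intE k hA' hB]
  exact Snapper.intE_add k (fun _ => hB) hA hA' (ProperFin.isCoh_structureModule X)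
    (dim_supp_le hdim _)

theorem pr_inv_left {A A' B : X.Modules} (hA : PicF.IsInvertible A) (hA' : PicF.IsInvertible A')
    (hB : PicF.IsInvertible B) (e : CohB1.tensorMod A A' ≅ Coh.structureModule X) :
    pr k A' B = -pr k A B := by
  have h := pr_add_left k hdim hA hA' hB
  rw [pr_congr k e (Iso.refl B), pr_one_left] at h
  omega

theorem pr_inv_both {A A' B B' : X.Modules} (hA : PicF.IsInvertible A) (hA' : PicF.IsInvertible A')
    (hB : PicF.IsInvertible B) (hB' : PicF.IsInvertible B')
    (e : CohB1.tensorMod A A' ≅ Coh.structureModule X)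
    (e' : CohB1.tensorMod B B' ≅ Coh.structureModule X) : pr k A' B' = pr k A B := by
  rw [pr_inv_left k hdim hA hA' hB' e, pr_comm k A B', pr_inv_left k hdim hB hB' hA e', pr_comm k B A]
  ring

theorem pr_pow_left {A B : X.Modules} (hA : PicF.IsInvertible A) (hB : PicF.IsInvertible B) :
    ∀ n : ℕ, pr k (CohB1.tensorPow A n) B = n * pr k A B
  | 0 => by
    show pr k (Coh.structureModule X) B = _
    rw [pr_one_left, Nat.cast_zero, zero_mul]
  | n + 1 => by
    show pr k (CohB1.tensorMod (CohB1.tensorPow A n) A) B = _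
    rw [pr_add_left k hdim (AmpleLib.isInvertible_tensorPow hA n) hA hB, pr_pow_left hA hB n]
    push_cast
    ring

/-- Integral combinations of two classes. -/
theorem exists_comb {A B : X.Modules} (hA : PicF.IsInvertible A) (hB : PicF.IsInvertible B) (m n : ℤ) :
    ∃ P : X.Modules, PicF.IsInvertible P ∧
      ∀ C : X.Modules, PicF.IsInvertible C → pr k P C = m * pr k A C + n * pr k B C := by
  have one : ∀ {A : X.Modules}, PicF.IsInvertible A → ∀ m : ℤ, ∃ P : X.Modules, PicF.IsInvertible P ∧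
      ∀ C : X.Modules, PicF.IsInvertible C → pr k P C = m * pr k A C := by
    intro A hA m
    cases m with
    | ofNat m =>
      exact ⟨_, AmpleLib.isInvertible_tensorPow hA m, fun C hC => by
        rw [pr_pow_left k hdim hA hC m]; rfl⟩
    | negSucc m =>
      obtain ⟨A', hA', ⟨e⟩⟩ := PicLaw.exists_inverse hA
      exact ⟨_, AmpleLib.isInvertible_tensorPow hA' (m + 1), fun C hC => by
        rw [pr_pow_left k hdim hA' hC (m + 1), pr_inv_left k hdim hA hA' hC e, Int.negSucc_eq]
        push_cast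
        ring⟩
  obtain ⟨P, hP, hPC⟩ := one hA m
  obtain ⟨Q, hQ, hQC⟩ := one hB n
  exact ⟨_, AmpleLib.isInvertible_tensorMod hP hQ, fun C hC => by
    rw [pr_add_left k hdim hP hQ hC, hPC C hC, hQC C hC]⟩

omit hdim in
/-- Additivity along a tensored short exact sequence. -/
theorem euler_tens_add {V : X.Modules} (hV : PicF.IsInvertible V) {S : ShortComplex X.Modules}
    (hS : S.ShortExact) (h₁ : Coh.IsCoh S.X₁) (h₂ : Coh.IsCoh S.X₂) (h₃ : Coh.IsCoh S.X₃) :
    Curv2.euler k X (CohB1.tensorMod V S.X₂) =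
      Curv2.euler k X (CohB1.tensorMod V S.X₁) + Curv2.euler k X (CohB1.tensorMod V S.X₃) := by
  haveI := EulerChar.isNoetherian k (X := X)
  have hV1 := isFinLocFreeOfRank_one hV
  let F := (DCoh.tensorBi (X := X)).obj V
  have hM : (ShortComplex.mk (F.map S.f) (F.map S.g) (by rw [← F.map_comp, S.zero, F.map_zero])).ShortExact :=
    CohDev.tens_shortExact hV1 hS
  have e : ∀ A : X.Modules, Curv2.euler k X (CohB1.tensorMod V A) = Curv2.euler k X (F.obj A) :=
    fun A => EulerChar.euler_iso k (Iso.refl (F.obj A) : CohB1.tensorMod V A ≅ F.obj A)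
  rw [e, e, e]
  exact EulerChar.euler_add' k (F.map S.f) (F.map S.g) _ hM (CohDev.isCoh_tens hV1 h₁)
    (CohDev.isCoh_tens hV1 h₂) (CohDev.isCoh_tens hV1 h₃)

section Integral

variable [IsIntegral X]

/-- An invertible module with a nonzero section meets an ample class nonnegatively. -/
theorem pr_nonneg_of_section {M H : X.Modules} (hM : PicF.IsInvertible M) (hH : CohB1.IsAmple H)
    (s : Coh.structureModule X ⟶ M) (hs : s ≠ 0) : 0 ≤ pr k M H := by
  haveI := EulerChar.isNoetherian k (X := X)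
  have hO := PicLoc.isInvertible_structureModule X
  have hOc := VBLib.isCoh_of_ofRank (isFinLocFreeOfRank_one hO)
  have hMc := VBLib.isCoh_of_ofRank (isFinLocFreeOfRank_one hM)
  haveI := EulerChar.mono_of_ne_zero hO hM s hs
  have hQ : Coh.IsCoh (cokernel s) := CohDev.isCoh_cokernel s hOc.1 hMc
  have hQd : topologicalKrullDim ↥(CohB1.support (cokernel s)) ≤ ((1 : ℕ) : WithBot ℕ∞) :=
    dim_le_of_not_mem (CohDev.isClosed_support hQ)
      (CohDev.not_mem_support_cokernel s (EulerChar.bijective_stalk_generic hO hM s hs).2)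
      (d := 1) hdim
  have hS := HilbPolyX.shortExact_of_mono s
  have h1 := EulerChar.euler_add k hS hOc hMc hQ
  have h2 : Curv2.euler k X (CohB1.tensorMod H M) =
      Curv2.euler k X (CohB1.tensorMod H (Coh.structureModule X)) +
        Curv2.euler k X (CohB1.tensorMod H (cokernel s)) :=
    euler_tens_add k hH.1 hS hOc hMc hQ
  have h3 := NumTriv.deg1_nonneg k hQ hQd hH
  rw [NumTriv.deg1, EulerChar.euler_iso k (tensComm (cokernel s) H)] at h3
  rw [EulerChar.euler_iso k (tensOne H)] at h2
  rw [pr, EulerChar.euler_iso k (tensComm M H)]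
  have h1' : Curv2.euler k X M = Curv2.euler k X (Coh.structureModule X) +
      Curv2.euler k X (cokernel s) := h1
  linarith

omit k [Field k] [X.Over (Spec (CommRingCat.of k))] [IsProper (X ↘ Spec (CommRingCat.of k))] hdim in
/-- Some positive power of an ample module has a nonzero section. -/
theorem exists_section_of_ample {H : X.Modules} (hH : CohB1.IsAmple H) :
    ∃ (m : ℕ) (s : Coh.structureModule X ⟶ CohB1.tensorPow H (m + 1)), s ≠ 0 := by
  obtain ⟨m, s, hs, -⟩ := hH.2.2 (genericPoint X)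
  refine ⟨m, s, fun h0 => ?_⟩
  have hb := HilbPolyX.stalk_sec_bijective s hs
  obtain ⟨eO⟩ := EulerChar.stalk_ofRank
    (isFinLocFreeOfRank_one (PicLoc.isInvertible_structureModule X)) (genericPoint X)
  haveI : Nontrivial ((Coh.structureModule X).presheaf.stalk (genericPoint X)) :=
    eO.injective.nontrivial
  obtain ⟨a, b, hab⟩ := exists_pair_ne ((Coh.structureModule X).presheaf.stalk (genericPoint X))
  refine hab (hb.1 ?_)
  obtain ⟨W, hW, a, rfl⟩ := exists_germM_eq (Coh.structureModule X) (genericPoint X) a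
  obtain ⟨W', hW', b, rfl⟩ := exists_germM_eq (Coh.structureModule X) (genericPoint X) b
  rw [stalkLin_germ, stalkLin_germ]
  subst h0
  exact (map_zero _).trans (map_zero _).symm

omit hdim in
/-- The square of an ample class is positive. -/
theorem pr_self_pos (hdim : topologicalKrullDim X = ((2 : ℕ) : WithBot ℕ∞)) {H : X.Modules}
    (hH : CohB1.IsAmple H) : 0 < pr k H H := by
  haveI := EulerChar.isNoetherian k (X := X)
  obtain ⟨H', hH', ⟨e⟩⟩ := PicLaw.exists_inverse hH.1
  have hsupp : CohB1.support (Coh.structureModule X) = Set.univ := by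
    refine Set.eq_univ_of_forall fun x hx => ?_
    obtain ⟨eO⟩ := EulerChar.stalk_ofRank
      (isFinLocFreeOfRank_one (PicLoc.isInvertible_structureModule X)) x
    haveI : Nontrivial ((Coh.structureModule X).presheaf.stalk x) := eO.injective.nontrivial
    haveI : Subsingleton ((Coh.structureModule X).presheaf.stalk x) := hx
    exact false_of_nontrivial_of_subsingleton ((Coh.structureModule X).presheaf.stalk x)
  have hd : topologicalKrullDim ↥(CohB1.support (Coh.structureModule X)) = ((2 : ℕ) : WithBot ℕ∞) := by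
    rw [hsupp, ← hdim]
    exact IsHomeomorph.topologicalKrullDim_eq _ (Homeomorph.Set.univ X).isHomeomorph
  have h := IntProd70.intE_pos k (L := fun _ : Fin 2 => H) (M := fun _ : Fin 2 => H')
    (fun _ => hH) (fun _ => ⟨e⟩) (ProperFin.isCoh_structureModule X) hd
  rwa [show (fun _ : Fin 2 => H') = Fin.cons H' (fun _ : Fin 1 => H') from
      funext fun i => by fin_cases i <;> rfl,
    pr_eq_intE k hH' hH', pr_inv_both k hdim.le hH.1 hH' hH.1 hH' e e] at h

omit hdim in
/-- `h⁰(N^n)` grows linearly when `(N·H) ≤ 0`. -/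
theorem lin_structure (hdim : topologicalKrullDim X = ((2 : ℕ) : WithBot ℕ∞)) {H N : X.Modules}
    (hH : CohB1.IsAmple H) (hN : PicF.IsInvertible N) (horth : pr k N H ≤ 0) :
    Lin k N (Coh.structureModule X) := by
  haveI := EulerChar.isNoetherian k (X := X)
  obtain ⟨m, s, hs⟩ := exists_section_of_ample hH
  let B := CohB1.tensorPow H (m + 1)
  have hB : PicF.IsInvertible B := AmpleLib.isInvertible_tensorPow hH.1 (m + 1)
  obtain ⟨P, hP, ⟨e⟩⟩ := PicLaw.exists_inverse hB
  have hO := PicLoc.isInvertible_structureModule X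
  have hOc := VBLib.isCoh_of_ofRank (isFinLocFreeOfRank_one hO)
  have hBc := VBLib.isCoh_of_ofRank (isFinLocFreeOfRank_one hB)
  haveI := EulerChar.mono_of_ne_zero hO hB s hs
  have hQ : Coh.IsCoh (cokernel s) := CohDev.isCoh_cokernel s hOc.1 hBc
  have hQd : topologicalKrullDim ↥(CohB1.support (cokernel s)) ≤ ((1 : ℕ) : WithBot ℕ∞) :=
    dim_le_of_not_mem (CohDev.isClosed_support hQ)
      (CohDev.not_mem_support_cokernel s (EulerChar.bijective_stalk_generic hO hB s hs).2)
      (d := 1) hdim.le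
  have hS := HilbPolyX.shortExact_of_mono s
  obtain ⟨c, hc⟩ := lin_of_dim_le_one k hN (G := CohB1.tensorMod P (cokernel s))
    (Snapper.isCoh_tensorMod k hP hQ)
    ((CohDev.dim_mono (CohDev.support_tens_subset P (cokernel s))).trans hQd)
  refine ⟨c, fun n => ?_⟩
  have hV0 := AmpleLib.isInvertible_tensorMod (AmpleLib.isInvertible_tensorPow hN n) hP
  let V := CohB1.tensorMod (CohB1.tensorPow N n) P
  have hle : hd k (CohB1.tensorMod V B) 0 ≤
      hd k (CohB1.tensorMod V (Coh.structureModule X)) 0 + hd k (CohB1.tensorMod V (cokernel s)) 0 :=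
    (hd_tens_le k hV0 hS hOc hBc hQ).2
  rw [hd_iso k (tensAssoc _ P B ≪≫ tensCongr (Iso.refl _) (tensComm P B ≪≫ e)) 0,
    hd_iso k (tensAssoc (CohB1.tensorPow N n) P (cokernel s)) 0,
    hd_iso k (tensOne V) 0] at hle
  have hzero : hd k V 0 = 0 := by
    by_contra h0
    obtain ⟨σ, hσ⟩ : ∃ σ : Coh.HH X V 0, σ ≠ 0 := by
      by_contra hall
      push Not at hall
      exact h0 (@Module.finrank_zero_of_subsingleton _ _ _ _ _ _ (subsingleton_of_forall_eq 0 hall))
    have hpos := pr_nonneg_of_section k hdim.le hV0 hH ((ShStabLib.BC.secEquiv k V).symm σ)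
      fun h => hσ ((LinearEquiv.map_eq_zero_iff _).1 h)
    rw [pr_add_left k hdim.le (AmpleLib.isInvertible_tensorPow hN n) hP hH.1,
      pr_pow_left k hdim.le hN hH.1, pr_inv_left k hdim.le hB hP hH.1 e,
      pr_pow_left k hdim.le hH.1 hH.1] at hpos
    have hp := pr_self_pos k hdim hH
    push_cast at hpos
    nlinarith [mul_nonpos_of_nonneg_of_nonpos (Int.natCast_nonneg n) horth]
  rw [hzero, zero_add] at hle
  exact hle.trans (hc n)

end Integral

omit hdim in
/-- A dual for `H²`: `h²(N^n) = h⁰(ω ⊗ N'^n)`. -/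
theorem exists_dual (hdim : topologicalKrullDim X = ((2 : ℕ) : WithBot ℕ∞)) {H : X.Modules}
    (hH : CohB1.IsAmple H) :
    ∃ ω : X.Modules, Coh.IsCoh ω ∧ ∀ N N' : X.Modules, PicF.IsInvertible N →
      Nonempty (CohB1.tensorMod N N' ≅ Coh.structureModule X) → ∀ n : ℕ,
        hd k (CohB1.tensorPow N n) 2 = hd k (CohB1.tensorMod (CohB1.tensorPow N' n) ω) 0 := by
  haveI := EulerChar.isNoetherian k (X := X)
  obtain ⟨p, ι, hι, hw⟩ := NumTriv.exists_closedImmersion_of_ample (k := k) hH
  haveI := hι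
  have hp : 2 ≤ p := by
    have h := ι.isClosedEmbedding.isInducing.topologicalKrullDim_le
    rw [S10829.result k p] at h
    have h' := hdim.ge.trans h
    exact_mod_cast h'
  haveI : ModSite.HasSheafHom (O := (CohB1.ProjSpace p k).sheaf)
      ((Scheme.Modules.pushforward ι).obj (Coh.structureModule X)) := KFlat.hasSheafHom (CohB1.ProjSpace p k).sheaf _
  haveI : EnoughInjectives (ModSite.Mod (CohB1.ProjSpace p k).sheaf) :=
    GrothSS.Main.enoughInjectives (A := ModSite.Mod (CohB1.ProjSpace p k).sheaf)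
  let ω := ((ChgRings.T ι (Coh.structureModule X)).rightDerived (p - 2)).obj (SerrePn.omega p k)
  have hω : Nonempty ((Scheme.Modules.pushforward ι).obj ω ≅
      (ModSite.extSh (O := (CohB1.ProjSpace p k).sheaf)
        ((Scheme.Modules.pushforward ι).obj (Coh.structureModule X)) (p - 2)).obj (SerrePn.omega p k)) :=
    ⟨(ChgRings.pushDerivedTIso ι (Coh.structureModule X) (p - 2)).app _⟩
  obtain ⟨t, ht⟩ := DualAbs.exists_isDualizing_closed ι hw hp hdim.le hω
  refine ⟨ω, DualAbs.isCoh_of_extSh ι hω, fun N N' hN hNN' n => ?_⟩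
  obtain ⟨e⟩ := hNN'
  have hN' : PicF.IsInvertible N' := AmpCrit.NegVan.isInvertible_of_inverse hN e
  have hA : ShStabLib.BC.IsInvSys N' (fun j => CohB1.tensorPow N j) :=
    { coh := fun j => VBLib.isCoh_of_ofRank
        (isFinLocFreeOfRank_one (AmpleLib.isInvertible_tensorPow hN j))
      inv := fun j => ⟨AmpCrit.NegVan.powInvIso e j⟩ }
  have hNc := hA.coh n
  haveI := fin' k hNc 2
  have h1 := (LinearEquiv.ofBijective _ (DualAbs.pairing_bijective ht _ hNc)).finrank_eq
  have h2 := ((ShStabLib.BC.homEquiv k hA n ω).trans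
    (ShStabLib.BC.secEquiv k ((HilbPolyX.twistF N' n).obj ω))).finrank_eq
  rw [Subspace.dual_finrank_eq] at h1
  rw [← hd_iso k (tensComm ω (CohB1.tensorPow N' n)) 0]
  exact h1.symm.trans h2

omit hdim in
/-- `χ(N^n)` as a quadratic polynomial. -/
theorem exists_euler_pow (hdim : topologicalKrullDim X ≤ ((2 : ℕ) : WithBot ℕ∞))
    {N : X.Modules} (hN : PicF.IsInvertible N) :
    ∃ c1 : ℤ, ∀ n : ℕ, Curv2.euler k X (CohB1.tensorPow N n) =
      Curv2.euler k X (Coh.structureModule X) + (n : ℤ) * c1 + ((n + 1).choose 2 : ℤ) * pr k N N := by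
  obtain ⟨N', hN', ⟨e⟩⟩ := PicLaw.exists_inverse hN
  refine ⟨Snapper.intE k (fun _ : Fin 1 => N') (Coh.structureModule X), fun n => ?_⟩
  have h2 : Snapper.intE k (fun _ : Fin 2 => N') (Coh.structureModule X) = pr k N N := by
    rw [show (fun _ : Fin 2 => N') = Fin.cons N' (fun _ : Fin 1 => N') from
        funext fun i => by fin_cases i <;> rfl,
      pr_eq_intE k hN' hN', pr_inv_both k hdim hN hN' hN hN' e e]
  rw [← EulerChar.euler_iso k (tensOne (CohB1.tensorPow N n)),
    Snapper.euler_tensorPow_eq k hN hN' e 2 n (ProperFin.isCoh_structureModule X)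
      (dim_supp_le hdim _),
    Finset.sum_range_succ, Finset.sum_range_succ, Finset.sum_range_one, h2, Snapper.intE_zero]
  simp only [Nat.choose_zero_right, Nat.choose_one_right, Nat.cast_one, one_mul,
    Nat.add_sub_cancel, show n + 2 - 1 = n + 1 from rfl,
    EulerChar.euler_iso k (tensOne (CohB1.tensorPow N n))]

omit hdim in
theorem euler_le (hdim : topologicalKrullDim X ≤ ((2 : ℕ) : WithBot ℕ∞)) (M : X.Modules) :
    Curv2.euler k X M ≤ (hd k M 0 : ℤ) + hd k M 2 := by
  rw [EulerChar.euler_eq_sum k (t := 3) fun p hp => subsingleton_gt k hdim M (show 2 < p by omega)]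
  simp [Finset.sum_range_succ]

omit hdim in
/-- `h²(N^n)` grows linearly when `(N·H) ≥ 0`. -/
theorem exists_h2_bound [IsIntegral X] (hdim : topologicalKrullDim X = ((2 : ℕ) : WithBot ℕ∞))
    {H N : X.Modules} (hH : CohB1.IsAmple H) (hN : PicF.IsInvertible N) (hnn : 0 ≤ pr k N H) :
    ∃ b : ℕ, ∀ n : ℕ, hd k (CohB1.tensorPow N n) 2 ≤ b * (n + 1) := by
  obtain ⟨N', hN', ⟨e⟩⟩ := PicLaw.exists_inverse hN
  obtain ⟨ω, hω, hdual⟩ := exists_dual k hdim hH
  have h' : pr k N' H ≤ 0 := by rw [pr_inv_left k hdim.le hN hN' hH.1 e]; omega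
  obtain ⟨b, hb⟩ := lin_of_lin_structure k hdim.le hN' (lin_structure k hdim hH hN' h') hω
  exact ⟨b, fun n => (hdual N N' hN ⟨e⟩ n).le.trans (hb n)⟩

omit hdim in
/-- Quadratic growth of sections. -/
theorem exists_growth [IsIntegral X] (hdim : topologicalKrullDim X = ((2 : ℕ) : WithBot ℕ∞))
    {H N : X.Modules} (hH : CohB1.IsAmple H) (hN : PicF.IsInvertible N) (hnn : 0 ≤ pr k N H)
    (hpos : 0 < pr k N N) :
    ∃ K : ℕ, ∀ n : ℕ, n * n ≤ 2 * hd k (CohB1.tensorPow N n) 0 + K * (n + 1) := by
  obtain ⟨c1, hc⟩ := exists_euler_pow k hdim.le hN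
  obtain ⟨b, hb⟩ := exists_h2_bound k hdim hH hN hnn
  let χ0 := Curv2.euler k X (Coh.structureModule X)
  refine ⟨2 * (χ0.natAbs + c1.natAbs + b), fun n => ?_⟩
  have h := (hc n).ge.trans (euler_le k hdim.le (CohB1.tensorPow N n))
  have hch : 2 * (((n + 1).choose 2 : ℕ) : ℤ) = ((n + 1) * n : ℤ) := by
    have h2 : 2 * (n + 1).choose 2 = (n + 1) * n := by
      rw [Nat.choose_two_right, Nat.add_sub_cancel,
        Nat.mul_div_cancel' (Nat.even_mul_succ_self n |>.two_dvd |> fun h => by rwa [mul_comm] at h)]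
    exact_mod_cast h2
  have h2' : ((hd k (CohB1.tensorPow N n) 2 : ℕ) : ℤ) ≤ ((b * (n + 1) : ℕ) : ℤ) := by
    exact_mod_cast hb n
  push_cast at h2'
  have hχ := neg_abs_le χ0
  have hc1 := neg_abs_le c1
  have hn := Int.natCast_nonneg n
  zify
  simp only [χ0] at *
  nlinarith [mul_le_mul_of_nonneg_left hc1 hn,
    mul_le_mul_of_nonneg_left (show (1 : ℤ) ≤ pr k N N from hpos)
      (Int.natCast_nonneg ((n + 1).choose 2)),
    mul_nonneg hn (abs_nonneg (Curv2.euler k X (Coh.structureModule X))), abs_nonneg c1,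
    mul_nonneg hn (abs_nonneg c1)]

omit hdim in
/-- Hodge index: on an integral surface with ample `H`, `(N·H) = 0` forces `(N·N) ≤ 0`. -/
theorem pr_self_nonpos [IsIntegral X] (hdim : topologicalKrullDim X = ((2 : ℕ) : WithBot ℕ∞))
    {H N : X.Modules} (hH : CohB1.IsAmple H) (hN : PicF.IsInvertible N) (horth : pr k N H = 0) :
    pr k N N ≤ 0 := by
  by_contra hpos
  push Not at hpos
  obtain ⟨K, hK⟩ := exists_growth k hdim hH hN horth.ge hpos
  obtain ⟨a, ha⟩ := lin_structure k hdim hH hN horth.le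
  have h := hK (2 * a + K + 2)
  have h0 := ha (2 * a + K + 2)
  rw [hd_iso k (tensOne (CohB1.tensorPow N (2 * a + K + 2))) 0] at h0
  nlinarith

omit hdim in
/-- `(D·D)(H·H) ≤ (D·H)²`. -/
theorem pr_mul_le_sq [IsIntegral X] (hdim : topologicalKrullDim X = ((2 : ℕ) : WithBot ℕ∞))
    {H D : X.Modules} (hH : CohB1.IsAmple H) (hD : PicF.IsInvertible D) :
    pr k D D * pr k H H ≤ pr k D H ^ 2 := by
  obtain ⟨P, hP, hPC⟩ := exists_comb k hdim.le hD hH.1 (pr k H H) (-pr k D H)
  have h := pr_self_nonpos k hdim hH hP (by rw [hPC H hH.1]; ring)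
  rw [hPC P hP, pr_comm k D P, pr_comm k H P, hPC D hD, hPC H hH.1, pr_comm k H D] at h
  have hpos := pr_self_pos k hdim hH
  by_contra hlt
  push Not at hlt
  nlinarith [mul_pos hpos (sub_pos.2 hlt)]

omit hdim in
/-- Cauchy–Schwarz on the orthogonal complement of an ample class. -/
theorem pr_sq_le_mul [IsIntegral X] (hdim : topologicalKrullDim X = ((2 : ℕ) : WithBot ℕ∞))
    {H A B : X.Modules} (hH : CohB1.IsAmple H) (hA : PicF.IsInvertible A) (hB : PicF.IsInvertible B)
    (hAH : pr k A H = 0) (hBH : pr k B H = 0) : pr k A B ^ 2 ≤ pr k A A * pr k B B := by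
  have key : ∀ m n : ℤ, m ^ 2 * pr k A A + 2 * m * n * pr k A B + n ^ 2 * pr k B B ≤ 0 := fun m n => by
    obtain ⟨P, hP, hPC⟩ := exists_comb k hdim.le hA hB m n
    have h := pr_self_nonpos k hdim hH hP (by rw [hPC H hH.1, hAH, hBH]; ring)
    rw [hPC P hP, pr_comm k A P, pr_comm k B P, hPC A hA, hPC B hB, pr_comm k B A] at h
    linarith
  have hA0 := pr_self_nonpos k hdim hH hA hAH
  generalize pr k A A = p at key hA0 ⊢
  generalize pr k A B = q at key ⊢
  generalize pr k B B = r at key ⊢
  rcases eq_or_lt_of_le hA0 with rfl | hp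
  · by_contra hlt
    push Not at hlt
    have h := key (q * (|r| + 1)) 1
    have hq : (1 : ℤ) ≤ q ^ 2 := by
      rw [zero_mul] at hlt
      omega
    have := neg_abs_le r
    have h5 := mul_le_mul_of_nonneg_right hq (abs_nonneg r)
    have h6 := abs_nonneg r
    ring_nf at h h5
    nlinarith
  · by_contra hlt
    push Not at hlt
    nlinarith [key q (-p), mul_pos (neg_pos.2 hp) (sub_pos.2 hlt)]

end Groth.Agent.HodgeIdx81
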